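import Cfsg.Agent.Lib.Recog.UsixMult.Checks
import Cfsg.Agent.Lib.Recog.SporBound.Presented
import Cfsg.Agent.Lib.Recog.SporBound.UsixA.Valid
import Cfsg.Agent.Lib.Recog.SporBound.UsixB.Valid
import Cfsg.Agent.Lib.Recog.SporBound.UsixC.Valid
import Cfsg.Agent.Lib.Recog.SporBound.UsixD.Valid
import Cfsg.Agent.Lib.Recog.SporBound.UsixTop.Valid
import Cfsg.Prelude.Def_SporCoxeter

/-!
# A presented group bounding the central extensions of PSU(6, 2)

Eight involutions with the Coxeter relations, two relators killed and two relators made central: a group of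
order at most `12 * 9196830720` (owner: helper6).
-/

set_option autoImplicit false
set_option maxRecDepth 20000

namespace CfsgLib.Recog.UsixMult

open Cfsg CfsgLib.Recog.SporBound CfsgLib.ThreeTrans.CosetIndex

/-- The edges. -/
def starEdges : List (Fin 8 × ℕ × Fin 8) :=
  [(0, 3, 1), (1, 3, 2), (1, 3, 5), (1, 3, 7), (2, 3, 3), (3, 3, 4), (5, 3, 6), (5, 3, 7)]

/-- A letter commutes with a word. -/
def comWord (R : List ℕ) (y : ℕ) : List ℕ := R ++ [y] ++ R.reverse ++ [y]

/-- The further relators as words. -/
def starWords : List (List ℕ) :=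
  [relA, relW] ++ ((List.range 8).map (comWord relB)) ++ ((List.range 8).map (comWord relC))

/-- The further relators. -/
def starExtra : List (FreeGroup (Fin 8)) :=
  starWords.map fun w => (w.map fun x => FreeGroup.of (Fin.ofNat 8 x)).prod

/-- The generators. -/
def starGens : List (Fin 8) := [0, 1, 2, 3, 4, 5, 6, 7]

/-- The group. -/
abbrev Star : Type := Spor.CoxPresented (Fin 8) starEdges starExtra

/-- The letters. -/
abbrev bP (x : ℕ) : Star := gen starEdges starExtra starGens x

theorem starNodes : Nodes starEdges starGens := ⟨by decide, by decide, by decide⟩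

theorem starLayer {C : Cert} {kl : List ℕ} (hC : C.OK) (hkl : C.kl = kl)
    (hrels : C.rels.all (fun w => (relWords starEdges starExtra starGens).contains w) = true)
    {H : Subgroup Star} [Finite H] {m : ℕ} (hm : Nat.card H ≤ m) (hsub : Cert.WordsIn bP H C.subs) :
    Finite (letterSub starEdges starExtra starGens kl) ∧
      Nat.card (letterSub starEdges starExtra starGens kl) ≤ C.n * m := by
  subst hkl
  refine tower_step starNodes hC H hm (SporBound.rels_one starNodes (more := [])
    (fun _ h => absurd h List.not_mem_nil) ?_) hsub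
  refine List.all_eq_true.2 fun w hw => ?_
  rw [List.all_eq_true.1 hrels w hw]; rfl

theorem star_bound : Finite Star ∧ Nat.card Star ≤ 12 * 9196830720 := by
  obtain ⟨f1, h1⟩ := starLayer UsixA.ok (kl := [1, 5, 7]) rfl (by decide +kernel) (H := ⊥) (m := 1)
    (by simp) (fun w hw => absurd hw List.not_mem_nil)
  obtain ⟨f2, h2⟩ := starLayer UsixB.ok (kl := [1, 2, 5, 7]) rfl (by decide +kernel)
    (H := letterSub starEdges starExtra starGens [1, 5, 7]) h1 (wordsIn_letterSub (by decide +kernel))
  obtain ⟨f3, h3⟩ := starLayer UsixC.ok (kl := [1, 2, 5, 6, 7]) rfl (by decide +kernel)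
    (H := letterSub starEdges starExtra starGens [1, 2, 5, 7]) h2 (wordsIn_letterSub (by decide +kernel))
  obtain ⟨f4, h4⟩ := starLayer UsixD.ok (kl := [1, 2, 3, 5, 6, 7]) rfl (by decide +kernel)
    (H := letterSub starEdges starExtra starGens [1, 2, 5, 6, 7]) h3 (wordsIn_letterSub (by decide +kernel))
  obtain ⟨f5, h5⟩ := starLayer UsixTop.ok (kl := List.range starGens.length) rfl (by decide +kernel)
    (H := letterSub starEdges starExtra starGens [1, 2, 3, 5, 6, 7]) h4 (wordsIn_letterSub (by decide +kernel))
  rw [letterSub_range starNodes] at f5 h5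
  rw [Subgroup.card_top, show UsixTop.cert.n = 2816 from rfl, show UsixD.cert.n = 756 from rfl,
    show UsixC.cert.n = 80 from rfl, show UsixB.cert.n = 12 from rfl, show UsixA.cert.n = 54 from rfl] at h5
  exact ⟨Finite.of_equiv _ Subgroup.topEquiv.toEquiv, h5.trans (le_of_eq (by norm_num))⟩

instance finite_star : Finite Star := star_bound.1

theorem bP_sq (x : ℕ) : bP x * bP x = 1 := SporBound.gen_inv starNodes x

theorem bP_word {w : List ℕ} (h : (relWords starEdges starExtra starGens).contains w = true) :
    (w.map bP).prod = 1 := relWord_one starNodes (List.contains_iff_mem.1 h)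

theorem star_words : starWords.all ((relWords starEdges starExtra starGens).contains ·) = true := by
  decide +kernel

theorem bP_of (i : Fin 8) : bP i.val = PresentedGroup.of i := by
  have h : ∀ i : Fin 8, starGens.idxOf i = i.val := by decide
  rw [bP, ← h i]
  exact gen_of starNodes i

theorem closure_bP : Subgroup.closure (Set.range bP) = ⊤ := closure_gen starNodes

/-- Values of the letters satisfying the relators define a homomorphism. -/
theorem exists_starHom {M : Type*} [Group M] (b : ℕ → M) (hbig : ∀ x, 8 ≤ x → b x = 1)
    (hpair : ∀ x y, x < 8 → y < 8 → ((pairWord x y).map b).prod = 1)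
    (hA : (relA.map b).prod = 1) (hW : (relW.map b).prod = 1)
    (hB : ∀ y, Commute (relB.map b).prod (b y)) (hC : ∀ y, Commute (relC.map b).prod (b y)) :
    ∃ φ : Star →* M, ∀ x, φ (bP x) = b x := by
  have hcox := hpair
  have hsq : ∀ x, b x * b x = 1 := fun x => by
    rcases Nat.lt_or_ge x 8 with hx | hx
    · have := hpair x x hx hx
      rw [pairWord, if_pos (Nat.beq_refl x)] at this
      simpa using this
    · rw [hbig x hx, one_mul]
  have hcom : ∀ R, (∀ y, Commute (R.map b).prod (b y)) → ∀ y, ((comWord R y).map b).prod = 1 := by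
    intro R hR y
    simp only [comWord, List.map_append, List.prod_append, List.map_singleton, List.prod_singleton]
    rw [prod_reverse_eq_inv b hsq, (hR y).eq, mul_inv_cancel_right, hsq]
  have hex : ∀ w ∈ starWords, (w.map b).prod = 1 := by
    intro w hw
    simp only [starWords, List.mem_append, List.mem_cons, List.not_mem_nil, or_false, List.mem_map,
      List.mem_range] at hw
    rcases hw with ((rfl | rfl) | ⟨y, -, rfl⟩) | ⟨y, -, rfl⟩
    exacts [hA, hW, hcom _ hB y, hcom _ hC y]
  let f : Fin 8 → M := fun i => b i.val
  have hlabel : ∀ x y : Fin 8, Spor.coxLabel starEdges x y =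
      if x = y then 1 else if adj x.val y.val then 3 else 2 := by decide
  have hrels : ∀ r ∈ Spor.coxRelators starEdges ∪ {r | r ∈ starExtra}, FreeGroup.lift f r = 1 := by
    rintro r (⟨x, -, y, -, rfl⟩ | hr)
    · rw [map_pow, map_mul, FreeGroup.lift_apply_of, FreeGroup.lift_apply_of, hlabel]
      have hp := hcox x.val y.val x.2 y.2
      by_cases hxy : x = y
      · subst hxy
        rw [pairWord, if_pos (Nat.beq_refl _)] at hp
        rw [if_pos rfl, pow_one]
        simpa using hp
      · rw [if_neg hxy]
        rw [pairWord, if_neg (by simpa using fun e => hxy (Fin.ext e))] at hp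
        by_cases hadj : adj x.val y.val = true
        · rw [if_pos hadj] at hp ⊢
          simpa [f, pow_succ, mul_assoc] using hp
        · rw [if_neg hadj] at hp ⊢
          simpa [f, pow_two, mul_assoc] using hp
    · obtain ⟨w, hw, rfl⟩ := List.mem_map.1 hr
      have hlt : ∀ x ∈ w, x < 8 := fun x hx => by
        have := (show starWords.all (fun w => w.all (Nat.blt · 8)) = true by decide +kernel)
        simpa using List.all_eq_true.1 (List.all_eq_true.1 this w hw) x hx
      rw [map_list_prod, List.map_map, ← hex w hw]
      refine congrArg List.prod (List.map_congr_left fun x hx => ?_)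
      rw [Function.comp_apply, FreeGroup.lift_apply_of]
      show b (Fin.ofNat 8 x).val = b x
      rw [Fin.val_ofNat, Nat.mod_eq_of_lt (hlt x hx)]
  refine ⟨PresentedGroup.toGroup hrels, fun x => ?_⟩
  rcases Nat.lt_or_ge x 8 with hx | hx
  · have e := bP_of ⟨x, hx⟩
    dsimp only at e
    rw [e, PresentedGroup.toGroup.of]
  · rw [hbig x hx, show bP x = 1 from by
      rw [bP, gen, List.getElem?_eq_none (by simpa [starGens] using hx)]; rfl, map_one]

end CfsgLib.Recog.UsixMult
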