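import Cfsg.Agent.Lib.Recog.UsixMult.Model
import Cfsg.Agent.Lib.Recog.UsixMult.Star
import Cfsg.Agent.Lib.Recog.SporBound.Fi22U6.Class

/-!
# Three representations of the presented group

SU(6, 2) and two lifts to the double cover inside the presented Fischer group separate the two central relators
(owner: helper6).
-/

set_option autoImplicit false
set_option maxRecDepth 20000
set_option Elab.async false

namespace CfsgLib.Recog.UsixMult

open Cfsg CfsgLib.ThreeTrans.CosetIndex CfsgLib.Recog.SporBound CfsgLib.Recog.SporBound.Fi22U6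
open CfsgLib.Recog.SporBound.Fi22Group (a act card_and_faithful finite_fi22)

/-- Words conjugating the first letter of Fi22 to a letter. -/
def chainFi : ℕ → List ℕ
  | 1 => [0, 1]
  | 2 => [1, 2, 0, 1]
  | 3 => [2, 3, 1, 2, 0, 1]
  | 4 => [3, 4, 2, 3, 1, 2, 0, 1]
  | 7 => [3, 7, 2, 3, 1, 2, 0, 1]
  | 5 => [4, 5, 3, 4, 2, 3, 1, 2, 0, 1]
  | 6 => [5, 6, 4, 5, 3, 4, 2, 3, 1, 2, 0, 1]
  | 8 => [7, 8, 3, 7, 2, 3, 1, 2, 0, 1]
  | _ => []

/-- A word fixes the nine points of the generating transpositions. -/
noncomputable def fixOK (w : List ℕ) : Bool :=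
  (List.range 9).all fun x => Nat.beq
    (FiHat3510.data.trace (FiHat3510.data.trace 0 (chainFi x).reverse) w.reverse)
    (FiHat3510.data.trace 0 (chainFi x).reverse)

theorem chain_fi_ok : ((List.range 9).all fun x => (List.range 3510).all fun c => Nat.beq
    (FiHat3510.data.trace c (chainFi x ++ [0] ++ (chainFi x).reverse ++ [x]).reverse) c) = true := by decide +kernel

/-- A word over the eight letters in the letters of Fi22. -/
def flatW (G : List (List ℕ)) (w : List ℕ) : List ℕ := w.flatMap fun x => G.getD x []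

/-- Words with value one in a lift. -/
def liftOne : List (List ℕ) :=
  ((List.range 8).flatMap fun x => (List.range 8).map fun y => pairWord x y) ++ [relA, relW]

theorem liftA_one : (liftOne ++ [relB]).all (fun w => fixOK (flatW liftA w)) = true := by decide +kernel

theorem liftA_a : fixOK (flatW liftA relC ++ [0]) = true := by decide +kernel

theorem liftB_one : (liftOne ++ [relC]).all (fun w => fixOK (flatW liftB w)) = true := by decide +kernel

theorem liftB_a : fixOK (flatW liftB relB ++ [0]) = true := by decide +kernel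

theorem lift_len : liftA.length = 8 ∧ liftB.length = 8 := by decide +kernel

theorem eq_one_of_fix {w : List ℕ} (h : fixOK w = true) : (w.map a).prod = 1 := by
  have := finite_fi22
  haveI : IsSimpleGroup Spor.Fi22 := Fi22Group.isSimple
  set g := (w.map a).prod with hg
  have hcom : ∀ x, x < 9 → g * a x = a x * g := by
    intro x hx
    set u := ((chainFi x).map a).prod with hu
    have hpt : act g (act u origin) = act u origin := by
      refine Fin.ext ?_
      have e1 := trace_eq_act (chainFi x) origin
      have e2 := trace_eq_act w (act u origin)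
      have h' := Nat.eq_of_beq_eq_true (List.all_eq_true.1 h x (List.mem_range.2 hx))
      change FiHat3510.data.trace (FiHat3510.data.trace origin.val (chainFi x).reverse) w.reverse =
        FiHat3510.data.trace origin.val (chainFi x).reverse at h'
      rw [e1, ← hu, e2, ← hg] at h'
      exact h'
    have hmem : u⁻¹ * g * u ∈ Fi22Group.K := stab_eq.1 (by
      rw [map_mul, map_mul, map_inv, Equiv.Perm.mul_apply, Equiv.Perm.mul_apply, hpt, Equiv.Perm.inv_eq_iff_eq])
    have hc : u⁻¹ * g * u * a 0 = a 0 * (u⁻¹ * g * u) := center_a _ hmem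
    have hx' : u * a 0 * u⁻¹ = a x := by
      have e := prod_eq_one_of_trace (w := chainFi x ++ [0] ++ (chainFi x).reverse ++ [x]) fun c hc =>
        Nat.eq_of_beq_eq_true (List.all_eq_true.1 (List.all_eq_true.1 chain_fi_ok x (List.mem_range.2 hx)) c
          (List.mem_range.2 hc))
      simp only [List.map_append, List.prod_append, List.map_singleton, List.prod_singleton] at e
      rw [prod_reverse_eq_inv a Fi22U6.a_sq, ← hu] at e
      rw [eq_inv_of_mul_eq_one_left e, inv_eq_of_mul_eq_one_right (Fi22U6.a_sq x)]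
    rw [← hx']
    calc g * (u * a 0 * u⁻¹) = u * (u⁻¹ * g * u * a 0) * u⁻¹ := by group
      _ = _ := by rw [hc]; group
  have hmem : g ∈ Subgroup.center Spor.Fi22 := by
    rw [← Subgroup.centralizer_univ, ← Subgroup.coe_top,
      ← SporBound.closure_gen (edges := Spor.Fi22.edges) (extra := Spor.Fi22.extra) Fi22Group.nodes,
      Subgroup.centralizer_closure]
    intro y hy
    obtain ⟨x, rfl⟩ := hy
    rcases Nat.lt_or_ge x 9 with hx | hx
    · exact (hcom x hx).symm
    · rw [gen, List.getElem?_eq_none (show Cfsg.Agent.S1687.gens.length ≤ x from hx)]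
      simp
  rcases (inferInstance : (Subgroup.center Spor.Fi22).Normal).eq_bot_or_eq_top with h' | h'
  · exact Subgroup.mem_bot.1 (h' ▸ hmem)
  · letI : CommGroup Spor.Fi22 := Group.commGroupOfCenterEqTop h'
    have hp := IsSimpleGroup.prime_card (α := Spor.Fi22)
    rw [card_and_faithful.1] at hp
    norm_num at hp

/-- The values of a lift. -/
noncomputable def bK (G : List (List ℕ)) (x : ℕ) : Spor.Fi22 := ((G.getD x []).map a).prod

theorem bK_word (G : List (List ℕ)) (w : List ℕ) : (w.map (bK G)).prod = ((flatW G w).map a).prod := by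
  induction w with
  | nil => simp [flatW]
  | cons x w ih =>
    rw [List.map_cons, List.prod_cons, ih, flatW, flatW, List.flatMap_cons, List.map_append, List.prod_append, bK]

theorem bK_a {G : List (List ℕ)} {w : List ℕ} (h : fixOK (flatW G w ++ [0]) = true) : (w.map (bK G)).prod = a 0 := by
  have e := eq_one_of_fix h
  rw [List.map_append, List.prod_append, List.map_singleton, List.prod_singleton, ← bK_word] at e
  rw [eq_inv_of_mul_eq_one_left e, inv_eq_of_mul_eq_one_right (Fi22U6.a_sq 0)]

/-- A lift to Fi22 defines a homomorphism. -/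
theorem exists_liftHom (G : List (List ℕ)) (hlen : G.length = 8)
    (hone : ∀ w ∈ liftOne, fixOK (flatW G w) = true) (RB RC : Spor.Fi22)
    (hB : (relB.map (bK G)).prod = RB) (hC : (relC.map (bK G)).prod = RC)
    (hBc : RB = 1 ∨ RB = a 0) (hCc : RC = 1 ∨ RC = a 0)
    (hK : ∀ x, bK G x ∈ Fi22Group.K) :
    ∃ φ : Star →* Spor.Fi22, φ (relB.map bP).prod = RB ∧ φ (relC.map bP).prod = RC := by
  have h1 : ∀ w ∈ liftOne, (w.map (bK G)).prod = 1 := fun w hw => by
    rw [bK_word]; exact eq_one_of_fix (hone w hw)
  have hcentral : ∀ R : Spor.Fi22, R = 1 ∨ R = a 0 → ∀ y, Commute R (bK G y) := by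
    intro R hR y
    rcases hR with rfl | rfl
    · exact Commute.one_left _
    · exact (center_a _ (hK y)).symm
  obtain ⟨φ, hφ⟩ := exists_starHom (bK G)
    (fun x hx => by rw [bK, List.getD_eq_default _ _ (hlen ▸ hx)]; simp)
    (fun x y hx hy => h1 _ (by
      simp only [liftOne, List.mem_append, List.mem_flatMap, List.mem_map, List.mem_range]
      exact Or.inl ⟨x, hx, y, hy, rfl⟩))
    (h1 _ (by simp [liftOne])) (h1 _ (by simp [liftOne]))
    (fun y => hB ▸ hcentral _ hBc y) (fun y => hC ▸ hcentral _ hCc y)
  refine ⟨φ, ?_, ?_⟩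
  · rw [map_list_prod, List.map_map, ← hB]
    exact congrArg List.prod (List.map_congr_left fun x _ => hφ x)
  · rw [map_list_prod, List.map_map, ← hC]
    exact congrArg List.prod (List.map_congr_left fun x _ => hφ x)

theorem lift_stab : ((List.range 8).all fun x =>
    Nat.beq (FiHat3510.data.trace 0 (liftA.getD x []).reverse) 0 &&
      Nat.beq (FiHat3510.data.trace 0 (liftB.getD x []).reverse) 0) = true := by decide +kernel

theorem bK_mem {G : List (List ℕ)} (hlen : G.length = 8)
    (h : ∀ x < 8, FiHat3510.data.trace origin.val (G.getD x []).reverse = origin.val) (x : ℕ) :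
    bK G x ∈ Fi22Group.K := by
  rcases Nat.lt_or_ge x 8 with hx | hx
  · refine stab_eq.1 (Fin.ext ?_)
    rw [bK, ← trace_eq_act]
    exact h x hx
  · rw [bK, List.getD_eq_default _ _ (hlen ▸ hx)]
    simp

theorem exists_homA : ∃ φ : Star →* Spor.Fi22, φ (relB.map bP).prod = 1 ∧ φ (relC.map bP).prod = a 0 := by
  have h := List.all_eq_true.1 liftA_one
  refine exists_liftHom liftA lift_len.1 (fun w hw => h w (List.mem_append_left _ hw)) 1 (a 0)
    (by rw [bK_word]; exact eq_one_of_fix (h relB (by simp))) (bK_a liftA_a) (Or.inl rfl) (Or.inr rfl)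
    (bK_mem lift_len.1 fun x hx => ?_)
  have := List.all_eq_true.1 lift_stab x (List.mem_range.2 hx)
  rw [Bool.and_eq_true] at this
  exact Nat.eq_of_beq_eq_true this.1

theorem exists_homB : ∃ φ : Star →* Spor.Fi22, φ (relB.map bP).prod = a 0 ∧ φ (relC.map bP).prod = 1 := by
  have h := List.all_eq_true.1 liftB_one
  refine exists_liftHom liftB lift_len.2 (fun w hw => h w (List.mem_append_left _ hw)) (a 0) 1
    (bK_a liftB_a) (by rw [bK_word]; exact eq_one_of_fix (h relC (by simp))) (Or.inr rfl) (Or.inl rfl)
    (bK_mem lift_len.2 fun x hx => ?_)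
  have := List.all_eq_true.1 lift_stab x (List.mem_range.2 hx)
  rw [Bool.and_eq_true] at this
  exact Nat.eq_of_beq_eq_true this.2

/-- The scalar of order three. -/
noncomputable def omS : SU6 := (relB.map bS).prod

theorem mat_omS : mat omS = F4.om • (1 : Matrix (Fin 6) (Fin 6) F4) := bS_relB

theorem eq_of_mat {M N : SU6} (h : mat M = mat N) : M = N := eq_of_mulVec fun x => by rw [h]

theorem omS_cube : omS ^ 3 = 1 := by
  refine eq_of_mat ?_
  rw [pow_succ, pow_two, mat_mul, mat_mul, mat_omS, mat_one]
  simp only [Matrix.smul_mul, Matrix.mul_smul, Matrix.one_mul, smul_smul]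
  rw [show F4.om * (F4.om * F4.om) = 1 by decide, one_smul]

theorem omS_ne_one : omS ≠ 1 := fun h => by
  have e := congrArg mat h
  rw [mat_omS, mat_one] at e
  have := congrFun (congrFun e 0) 0
  rw [Matrix.smul_apply, Matrix.one_apply_eq, smul_eq_mul, mul_one] at this
  exact absurd this (by decide)

theorem exists_homS : ∃ φ : Star →* SU6, φ (relB.map bP).prod = omS ∧ φ (relC.map bP).prod = omS ^ 2 := by
  obtain ⟨φ, hφ⟩ := exists_starHom bS (fun _ => bS_big) (fun _ _ hx hy => bS_one_word (pairWord_mem hx hy))
    (bS_one_word (by simp [oneWords])) (bS_one_word (by simp [oneWords]))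
    (fun y => (Subgroup.mem_center_iff.1 (central_of_mat bS_relB) (bS y)).symm)
    (fun y => (Subgroup.mem_center_iff.1 (central_of_mat bS_relC) (bS y)).symm)
  have hw : ∀ w : List ℕ, φ (w.map bP).prod = (w.map bS).prod := fun w => by
    rw [map_list_prod, List.map_map]
    exact congrArg List.prod (List.map_congr_left fun x _ => hφ x)
  refine ⟨φ, hw relB, (hw relC).trans (eq_of_mat ?_)⟩
  rw [bS_relC, pow_two, mat_mul, mat_omS]
  simp only [Matrix.smul_mul, Matrix.mul_smul, Matrix.one_mul, smul_smul]
  rw [show F4.om * F4.om = F4.om' from rfl]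

end CfsgLib.Recog.UsixMult
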