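import Cfsg.Agent.Lib.Recog.UsixMult.Lift
import Cfsg.Agent.Lib.Recog.UsixMult.Covers
import Mathlib.FieldTheory.Finite.GaloisField
import Mathlib.GroupTheory.SpecificGroups.Cyclic

/-!
# The Schur multiplier of PSU(6, 2) is `3 × 2 × 2`

Owner: helper6.
-/

set_option autoImplicit false
set_option maxRecDepth 20000

namespace CfsgLib.Recog.UsixMult

open Cfsg CfsgLib.Recog.SporBound CfsgLib.Recog.SporBound.Fi22U6 CfsgLib.ThreeTrans.CosetIndex
open CfsgLib.Recog.SporBound.Fi22Group (a)
open scoped commutatorElement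

/-- The value of the second relator. -/
noncomputable def rB : Star := (relB.map bP).prod

/-- The value of the third relator. -/
noncomputable def rC : Star := (relC.map bP).prod

theorem central_of_rel {R : List ℕ} (h : ∀ y < 8, comWord R y ∈ starWords) :
    (R.map bP).prod ∈ Subgroup.center Star := by
  have hc : ∀ x, Commute (R.map bP).prod (bP x) := by
    intro x
    rcases Nat.lt_or_ge x 8 with hx | hx
    · have e := bP_word (List.all_eq_true.1 star_words _ (h x hx))
      simp only [comWord, List.map_append, List.prod_append, List.map_singleton, List.prod_singleton] at e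
      rw [prod_reverse_eq_inv bP bP_sq] at e
      have e2 := eq_inv_of_mul_eq_one_left e
      rw [inv_eq_of_mul_eq_one_right (bP_sq x)] at e2
      show _ = _
      calc (R.map bP).prod * bP x = (R.map bP).prod * bP x * ((R.map bP).prod)⁻¹ * (R.map bP).prod := by group
        _ = _ := by rw [e2]
    · rw [show bP x = 1 from by
        rw [bP, gen, List.getElem?_eq_none (by simpa [starGens] using hx)]; rfl]
      exact Commute.one_right _
  rw [← Subgroup.centralizer_univ, ← Subgroup.coe_top, ← closure_bP, Subgroup.centralizer_closure]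
  rintro _ ⟨x, rfl⟩
  exact (hc x).symm.eq

theorem rB_central : rB ∈ Subgroup.center Star :=
  central_of_rel fun y hy => List.mem_append_left _ (List.mem_append_right _ (List.mem_map.2 ⟨y, List.mem_range.2 hy, rfl⟩))

theorem rC_central : rC ∈ Subgroup.center Star :=
  central_of_rel fun y hy => List.mem_append_right _ (List.mem_map.2 ⟨y, List.mem_range.2 hy, rfl⟩)

theorem bP_braid {x y : ℕ} (h : adj x y = true) : bP x * (bP y * bP x) = bP y * (bP x * bP y) := by
  obtain ⟨hx, hy, hne⟩ := adj_lt h
  have hrel : CoxRel bP := coxRel_of_pairs bP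
    (fun z hz => by rw [bP, gen, List.getElem?_eq_none (by simpa [starGens] using hz)]; rfl)
    (fun u v hu hv => by
      by_cases huv : Nat.beq u v = true
      · rw [pairWord, if_pos huv, Nat.eq_of_beq_eq_true huv]
        simpa using bP_sq v
      · refine bP_word ?_
        have := (show ((List.range 8).all fun u => (List.range 8).all fun v => Nat.beq u v ||
          (relWords starEdges starExtra starGens).contains (pairWord u v)) = true by decide +kernel)
        have h2 := List.all_eq_true.1 (List.all_eq_true.1 this u (List.mem_range.2 hu)) v (List.mem_range.2 hv)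
        simpa [huv] using h2)
  exact hrel.braid x y h

theorem commutator_star : commutator Star = ⊤ := by
  let q : Star →* Abelianization Star := Abelianization.of
  have hsq : ∀ x, q (bP x) * q (bP x) = 1 := fun x => by rw [← map_mul, bP_sq, map_one]
  have hadj : ∀ x y, adj x y = true → q (bP x) = q (bP y) := by
    intro x y h
    have e := congrArg q (bP_braid h)
    rw [map_mul, map_mul, map_mul, map_mul, mul_left_comm] at e
    exact mul_right_cancel (b := q (bP x)) (mul_left_cancel (a := q (bP y)) (by rw [e]; ac_rfl))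
  have h10 := hadj 1 0 (by decide)
  have h12 := hadj 1 2 (by decide)
  have h15 := hadj 1 5 (by decide)
  have h17 := hadj 1 7 (by decide)
  have h23 := hadj 2 3 (by decide)
  have h34 := hadj 3 4 (by decide)
  have h56 := hadj 5 6 (by decide)
  have hall : ∀ x < 8, q (bP x) = q (bP 1) := by
    intro x hx
    interval_cases x
    · exact h10.symm
    · rfl
    · exact h12.symm
    · exact (h12.trans h23).symm
    · exact ((h12.trans h23).trans h34).symm
    · exact h15.symm
    · exact (h15.trans h56).symm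
    · exact h17.symm
  have hu : q (bP 1) = 1 := by
    have e := congrArg q (bP_word (w := relW) (List.all_eq_true.1 star_words _ (by simp [starWords])))
    have hlt : relW.all (fun z => Nat.blt z 8) = true := by decide +kernel
    have hm : relW.map (⇑q ∘ bP) = relW.map fun _ => q (bP 1) := List.map_congr_left fun x hx =>
      hall x (by simpa using List.all_eq_true.1 hlt x hx)
    rw [map_list_prod, List.map_map, map_one, hm, List.map_const', List.prod_replicate,
      show relW.length = 2 * 31 + 1 by decide +kernel, pow_succ, pow_mul, pow_two, hsq, one_pow, one_mul] at e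
    exact e
  rw [← Abelianization.ker_of, eq_top_iff, ← closure_bP, Subgroup.closure_le]
  rintro _ ⟨x, rfl⟩
  rcases Nat.lt_or_ge x 8 with hx | hx
  · rw [SetLike.mem_coe, MonoidHom.mem_ker]
    exact (hall x hx).trans hu
  · rw [bP, gen, List.getElem?_eq_none (by simpa [starGens] using hx)]
    exact one_mem _

theorem card_U0 : Nat.card U0 = 9196830720 := card_psu

theorem card_ker_le : Nat.card psi.ker ≤ 12 := by
  have h1 := psi.ker.index_mul_card
  have e : psi.ker.index = Nat.card U0 := by
    rw [Subgroup.index_ker, MonoidHom.range_eq_top.2 psi_surjective, Subgroup.card_top]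
  have h2 := star_bound.2
  rw [e, card_U0] at h1
  omega

/-- The kernel of the presented group over PSU(6, 2) is central, of type `3 × 2 × 2`. -/
theorem kernel_structure : psi.ker ≤ Subgroup.center Star ∧
    Nonempty (psi.ker ≃* Multiplicative (ZMod 3 × ZMod 2 × ZMod 2)) := by
  obtain ⟨φS, hSB, hSC⟩ := exists_homS
  obtain ⟨φA, hAB, hAC⟩ := exists_homA
  obtain ⟨φB, hBB, hBC⟩ := exists_homB
  let Ψ : Star →* SU6 × Spor.Fi22 × Spor.Fi22 := φS.prod (φA.prod φB)
  let N : Subgroup Star := Subgroup.closure {rB, rC}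
  have hker : ∀ R : List ℕ, (R.map bU).prod = 1 → (R.map bP).prod ∈ psi.ker := fun R h => by
    rw [MonoidHom.mem_ker, map_list_prod, List.map_map, ← h]
    exact congrArg List.prod (List.map_congr_left fun x _ => psi_bP x)
  have hNk : N ≤ psi.ker := by
    rw [Subgroup.closure_le]
    rintro _ (rfl | rfl)
    exacts [hker relB bU_relB, hker relC bU_relC]
  let Q : Subgroup (SU6 × Spor.Fi22 × Spor.Fi22) :=
    (Subgroup.zpowers omS).prod ((Subgroup.zpowers (a 0)).prod (Subgroup.zpowers (a 0)))
  have hB' : Ψ rB = (omS, 1, a 0) := Prod.ext hSB (Prod.ext hAB hBB)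
  have hC' : Ψ rC = (omS ^ 2, a 0, 1) := Prod.ext hSC (Prod.ext hAC hBC)
  have ha2 : a 0 * a 0 = 1 := Fi22U6.a_sq 0
  have ha3 : (a 0) ^ 3 = a 0 := by rw [pow_succ, pow_two, ha2, one_mul]
  have hQ : Q ≤ N.map Ψ := by
    have g1 : ((omS, 1, 1) : SU6 × Spor.Fi22 × Spor.Fi22) ∈ N.map Ψ := by
      refine ⟨rB ^ 4, pow_mem (Subgroup.subset_closure (by simp)) 4, ?_⟩
      rw [map_pow, hB']
      refine Prod.ext ?_ (Prod.ext (one_pow _) ?_)
      · show omS ^ 4 = omS
        rw [pow_succ, omS_cube, one_mul]
      · show a 0 ^ 4 = 1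
        rw [show (4 : ℕ) = 2 * 2 from rfl, pow_mul, pow_two, pow_two, ha2, one_mul]
    have g2 : ((1, a 0, 1) : SU6 × Spor.Fi22 × Spor.Fi22) ∈ N.map Ψ := by
      refine ⟨rC ^ 3, pow_mem (Subgroup.subset_closure (by simp)) 3, ?_⟩
      rw [map_pow, hC']
      refine Prod.ext ?_ (Prod.ext ha3 (one_pow _))
      show (omS ^ 2) ^ 3 = 1
      rw [← pow_mul, mul_comm, pow_mul, omS_cube, one_pow]
    have g3 : ((1, 1, a 0) : SU6 × Spor.Fi22 × Spor.Fi22) ∈ N.map Ψ := by
      refine ⟨rB ^ 3, pow_mem (Subgroup.subset_closure (by simp)) 3, ?_⟩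
      rw [map_pow, hB']
      exact Prod.ext omS_cube (Prod.ext (one_pow _) ha3)
    rintro ⟨x, y, w⟩ ⟨hx, hy, hw⟩
    obtain ⟨i, rfl⟩ := hx
    obtain ⟨j, rfl⟩ := hy
    obtain ⟨k, rfl⟩ := hw
    have e : ((omS ^ i, a 0 ^ j, a 0 ^ k) : SU6 × Spor.Fi22 × Spor.Fi22) =
        (omS, 1, 1) ^ i * (1, a 0, 1) ^ j * (1, 1, a 0) ^ k := by
      simp [Prod.ext_iff]
    show ((omS ^ i, a 0 ^ j, a 0 ^ k) : SU6 × Spor.Fi22 × Spor.Fi22) ∈ _
    rw [e]
    exact mul_mem (mul_mem (zpow_mem g1 i) (zpow_mem g2 j)) (zpow_mem g3 k)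
  have h3 : Nat.card (Subgroup.zpowers omS) = 3 := by
    haveI : Fact (Nat.Prime 3) := ⟨Nat.prime_three⟩
    rw [Nat.card_zpowers]
    exact orderOf_eq_prime omS_cube omS_ne_one
  have h2 : Nat.card (Subgroup.zpowers (a 0)) = 2 := by
    rw [Nat.card_zpowers]
    exact orderOf_eq_prime (by rw [pow_two, ha2]) Fi22U6.a_ne_one
  let eQ : Q ≃* Subgroup.zpowers omS × Subgroup.zpowers (a 0) × Subgroup.zpowers (a 0) :=
    (Subgroup.prodEquiv _ _).trans (MulEquiv.prodCongr (MulEquiv.refl _) (Subgroup.prodEquiv _ _))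
  have hcardQ : Nat.card Q = 12 := by
    rw [Nat.card_congr eQ.toEquiv, Nat.card_prod, Nat.card_prod, h3, h2]
  have hNle : Nat.card (N.map Ψ) ≤ Nat.card N := Nat.le_of_dvd Nat.card_pos (N.card_map_dvd Ψ)
  haveI : Finite (N.map Ψ) := (Set.Finite.image Ψ (Set.toFinite (N : Set Star))).to_subtype
  have hQle : Nat.card Q ≤ Nat.card (N.map Ψ) :=
    Nat.card_le_card_of_injective _ (Subgroup.inclusion_injective hQ)
  have hle := card_ker_le
  have hNkle : Nat.card N ≤ Nat.card psi.ker :=
    Nat.card_le_card_of_injective _ (Subgroup.inclusion_injective hNk)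
  have hN : N = psi.ker := Subgroup.eq_of_le_of_card_ge hNk (by omega)
  have hcenN : N ≤ Subgroup.center Star := by
    rw [Subgroup.closure_le]
    rintro _ (rfl | rfl)
    exacts [rB_central, rC_central]
  have hQeq : Q = N.map Ψ := by
    haveI : Finite (N.map Ψ) := Nat.finite_of_card_ne_zero (by omega)
    exact Subgroup.eq_of_le_of_card_ge hQ (by omega)
  refine ⟨hN ▸ hcenN, ?_⟩
  have hbij : Function.Bijective (Ψ.subgroupMap N) := by
    refine (Nat.bijective_iff_surjective_and_card _).2 ⟨MonoidHom.subgroupMap_surjective Ψ N, ?_⟩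
    omega
  let e1 : psi.ker ≃* Q := (MulEquiv.subgroupCongr hN.symm).trans
    ((MulEquiv.ofBijective _ hbij).trans (MulEquiv.subgroupCongr hQeq.symm))
  haveI : IsCyclic (Subgroup.zpowers omS) := inferInstance
  let c3 : Subgroup.zpowers omS ≃* Multiplicative (ZMod 3) := mulEquivOfCyclicCardEq (by simp [h3])
  let c2 : Subgroup.zpowers (a 0) ≃* Multiplicative (ZMod 2) := mulEquivOfCyclicCardEq (by simp [h2])
  exact ⟨e1.trans (eQ.trans ((MulEquiv.prodCongr c3 ((MulEquiv.prodCongr c2 c2).trans
    (MulEquiv.prodMultiplicative (ZMod 2) (ZMod 2)).symm)).trans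
      (MulEquiv.prodMultiplicative (ZMod 3) (ZMod 2 × ZMod 2)).symm))⟩

theorem psi_stem : Cfsg.IsStemExtension psi :=
  ⟨psi_surjective, kernel_structure.1, by rw [commutator_star]; exact le_top⟩

/-- The multiplier of any group isomorphic to PSU(6, 2) over the table field. -/
theorem multiplier_of_equiv {U : Type*} [Group U] (e : U0 ≃* U) :
    Cfsg.HasSchurMultiplier U (Multiplicative (ZMod 3 × ZMod 2 × ZMod 2)) := by
  obtain ⟨k⟩ := kernel_structure.2
  constructor
  · let d : ULift Star ≃* Star := MulEquiv.ulift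
    let σ : ULift Star →* U := e.toMonoidHom.comp (psi.comp d.toMonoidHom)
    have hk : σ.ker = psi.ker.comap d.toMonoidHom := by
      ext x
      rw [MonoidHom.mem_ker, Subgroup.mem_comap, MonoidHom.mem_ker]
      exact e.map_eq_one_iff
    refine ⟨ULift Star, inferInstance, Finite.of_equiv Star d.symm.toEquiv, σ,
      ⟨e.surjective.comp (psi_surjective.comp d.surjective), ?_, ?_⟩, ⟨?_⟩⟩
    · intro x hx
      rw [hk, Subgroup.mem_comap] at hx
      have := kernel_structure.1 hx
      rw [Subgroup.mem_center_iff] at this ⊢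
      intro y
      exact d.injective (by rw [map_mul, map_mul]; exact this (d y))
    · have : commutator (ULift Star) = ⊤ := by
        rw [eq_top_iff]
        intro x _
        have hx : d x ∈ (commutator (ULift Star)).map d.toMonoidHom := by
          rw [map_commutator_eq, MonoidHom.range_eq_top.2 d.surjective, ← commutator_def, commutator_star]
          exact Subgroup.mem_top _
        obtain ⟨y, hy, hxy⟩ := hx
        rwa [← d.injective hxy]
      rw [this]
      exact le_top
    · exact ((MulEquiv.subgroupCongr hk).trans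
        ((MulEquiv.subgroupMap d _).trans (MulEquiv.subgroupCongr
          (Subgroup.map_comap_eq_self_of_surjective d.surjective _)))).trans k
  · intro Γ _ _ σ hσ
    let τ : Γ →* U0 := e.symm.toMonoidHom.comp σ
    have hk : τ.ker = σ.ker := by ext; simp [τ]
    obtain ⟨Φ, hΦs, hΦ⟩ := exists_cover_hom τ ⟨e.symm.surjective.comp hσ.1, hk ▸ hσ.2.1, hk ▸ hσ.2.2⟩
    have hmem : ∀ u : psi.ker, Φ u ∈ σ.ker := fun u => by
      rw [← hk, MonoidHom.mem_ker, hΦ]
      exact u.2
    let f : psi.ker →* σ.ker := (Φ.comp psi.ker.subtype).codRestrict σ.ker hmem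
    have hf : Function.Surjective f := by
      rintro ⟨x, hx⟩
      obtain ⟨u, rfl⟩ := hΦs x
      have hu : u ∈ psi.ker := by
        rw [MonoidHom.mem_ker, ← hΦ]
        rw [← hk] at hx
        exact hx
      exact ⟨⟨u, hu⟩, rfl⟩
    exact ⟨f.comp k.symm.toMonoidHom, hf.comp k.symm.surjective⟩

/-- The special unitary group along an isomorphism of fields. -/
theorem exists_psu_equiv {F : Type*} [Field F] [Fintype F] (hF : Fintype.card F = 4) :
    Nonempty (U0 ≃* Cfsg.PSU 6 F 2) := by
  have hF4 : Fintype.card F4 = 4 := by decide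
  let r : F4 ≃+* F := FiniteField.ringEquivOfCardEq (hF4.trans hF.symm)
  have hform : ∀ u v : Fin 6 → F4,
      Cfsg.hermForm 6 F 2 (fun i => r (u i)) (fun i => r (v i)) = r (Cfsg.hermForm 6 F4 2 u v) := by
    intro u v
    simp [Cfsg.hermForm, map_sum]
  have hmul : ∀ (M : Matrix (Fin 6) (Fin 6) F4) (u : Fin 6 → F4),
      Matrix.mulVec (r.toRingHom.mapMatrix M) (fun i => r (u i)) = fun i => r (Matrix.mulVec M u i) := by
    intro M u
    funext i
    exact (RingHom.map_mulVec r.toRingHom M u i).symm
  let m : Matrix.SpecialLinearGroup (Fin 6) F4 →* Matrix.SpecialLinearGroup (Fin 6) F :=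
    Matrix.SpecialLinearGroup.map r.toRingHom
  have hm : Function.Bijective m := by
    refine ⟨fun A B h => Subtype.ext ?_, fun A => ⟨Matrix.SpecialLinearGroup.map r.symm.toRingHom A, Subtype.ext ?_⟩⟩
    · ext i j
      exact r.injective (congrFun (congrFun (congrArg Subtype.val h) i) j)
    · ext i j
      exact r.apply_symm_apply _
  let M : Matrix.SpecialLinearGroup (Fin 6) F4 ≃* Matrix.SpecialLinearGroup (Fin 6) F := MulEquiv.ofBijective m hm
  have hmem : (Cfsg.SU 6 F4 2).map M.toMonoidHom = Cfsg.SU 6 F 2 := by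
    ext B
    constructor
    · rintro ⟨A, hA, rfl⟩ u v
      obtain ⟨u, rfl⟩ : ∃ u' : Fin 6 → F4, (fun i => r (u' i)) = u := ⟨fun i => r.symm (u i), funext fun i => r.apply_symm_apply _⟩
      obtain ⟨v, rfl⟩ : ∃ v' : Fin 6 → F4, (fun i => r (v' i)) = v := ⟨fun i => r.symm (v i), funext fun i => r.apply_symm_apply _⟩
      show Cfsg.hermForm 6 F 2 (Matrix.mulVec (r.toRingHom.mapMatrix A.1) _) (Matrix.mulVec (r.toRingHom.mapMatrix A.1) _) = _
      rw [hmul, hmul, hform, hform]
      exact congrArg r (hA u v)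
    · intro hB
      obtain ⟨A, rfl⟩ := M.surjective B
      refine ⟨A, fun u v => ?_, rfl⟩
      have := hB (fun i => r (u i)) (fun i => r (v i))
      change Cfsg.hermForm 6 F 2 (Matrix.mulVec (r.toRingHom.mapMatrix A.1) _)
        (Matrix.mulVec (r.toRingHom.mapMatrix A.1) _) = _ at this
      rw [hmul, hmul, hform, hform] at this
      exact r.injective this
  let e : Cfsg.SU 6 F4 2 ≃* Cfsg.SU 6 F 2 :=
    (MulEquiv.subgroupMap M _).trans (MulEquiv.subgroupCongr hmem)
  refine ⟨QuotientGroup.congr _ _ e ?_⟩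
  ext x
  constructor
  · rintro ⟨y, hy, rfl⟩
    rw [Subgroup.mem_center_iff]
    intro z
    obtain ⟨w, rfl⟩ := e.surjective z
    show e w * e y = e y * e w
    rw [← map_mul, ← map_mul, Subgroup.mem_center_iff.1 hy w]
  · intro hx
    refine ⟨e.symm x, Subgroup.mem_center_iff.2 fun z => ?_, e.apply_symm_apply x⟩
    exact e.injective (by rw [map_mul, map_mul, e.apply_symm_apply]; exact Subgroup.mem_center_iff.1 hx (e z))

theorem multiplier_psu {F : Type*} [Field F] [Fintype F] (hF : Fintype.card F = 4) :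
    Cfsg.HasSchurMultiplier (Cfsg.PSU 6 F 2) (Multiplicative (ZMod 3 × ZMod 2 × ZMod 2)) :=
  multiplier_of_equiv (exists_psu_equiv hF).some

end CfsgLib.Recog.UsixMult
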