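import Mathlib.Algebra.Group.Basic
import Mathlib.Algebra.BigOperators.Group.List.Basic

set_option autoImplicit false

/-!
Checked rewriting in the Coxeter group of the diagram of eight transvections of PSU(6, 2) (owner: helper6; after FiTwoMult.Moves of helper18).
-/

namespace CfsgLib.Recog.UsixMult

/-- Joined letters. -/
def adj (a b : ℕ) : Bool :=
  [(0, 1), (1, 2), (1, 5), (1, 7), (2, 3), (3, 4), (5, 6), (5, 7)].any fun e =>
    (Nat.beq e.1 a && Nat.beq e.2 b) || (Nat.beq e.1 b && Nat.beq e.2 a)

/-- A braid or commutation move at a place. -/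
def move : List ℕ → ℕ → Option (List ℕ)
  | a :: b :: c :: r, 0 =>
    if adj a b then (if Nat.beq a c then some (b :: a :: b :: r) else none) else some (b :: a :: c :: r)
  | [a, b], 0 => if adj a b then none else some [b, a]
  | x :: r, i + 1 => (move r i).map (x :: ·)
  | _, _ => none

/-- Several moves. -/
def moves : List ℕ → List ℕ → Option (List ℕ)
  | R, [] => some R
  | R, i :: is => (move R i).bind fun R' => moves R' is

/-- Put a letter in front, cancelling. -/
def push (s : ℕ) : List ℕ → List ℕ
  | t :: r => if Nat.beq s t then r else s :: t :: r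
  | [] => [s]

/-- Reduce a word by the listed moves. -/
def reduceBy : List ℕ → List (List ℕ) → Option (List ℕ)
  | [], _ => some []
  | s :: w, m :: ms => (reduceBy w ms).bind fun R => (moves R m).map (push s)
  | _ :: _, [] => none

/-- The defining relations of the diagram for the values of the letters. -/
structure CoxRel {M : Type*} [Monoid M] (f : ℕ → M) : Prop where
  sq : ∀ x, f x * f x = 1
  braid : ∀ x y, adj x y = true → f x * (f y * f x) = f y * (f x * f y)
  comm : ∀ x y, adj x y = false → f x * f y = f y * f x

variable {M : Type*} [Monoid M] {f : ℕ → M}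

theorem move_prod (hf : CoxRel f) : ∀ (R : List ℕ) (i : ℕ) (R' : List ℕ),
    move R i = some R' → (R'.map f).prod = (R.map f).prod
  | [], i, R', h => by simp [move] at h
  | [x], 0, R', h => by simp [move] at h
  | [a, b], 0, R', h => by
    simp only [move] at h
    split_ifs at h with hadj
    obtain rfl := Option.some.inj h
    simp only [List.map_cons, List.prod_cons, List.map_nil, List.prod_nil, mul_one]
    rw [hf.comm a b (Bool.eq_false_iff.2 hadj)]
  | a :: b :: c :: r, 0, R', h => by
    simp only [move] at h
    split_ifs at h with hadj hac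
    · obtain rfl := Option.some.inj h
      obtain rfl := Nat.eq_of_beq_eq_true hac
      simp only [List.map_cons, List.prod_cons, ← mul_assoc]
      rw [mul_assoc (f b) (f a) (f b), ← hf.braid a b hadj, ← mul_assoc]
    · obtain rfl := Option.some.inj h
      simp only [List.map_cons, List.prod_cons, ← mul_assoc]
      rw [hf.comm a b (Bool.eq_false_iff.2 hadj)]
  | x :: r, i + 1, R', h => by
    have h' : (move r i).map (x :: ·) = some R' := by
      rw [← h]
      rcases r with _ | ⟨b, _ | ⟨c, r⟩⟩ <;> simp only [move]
    rw [Option.map_eq_some_iff] at h'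
    obtain ⟨r', hr', rfl⟩ := h'
    simp only [List.map_cons, List.prod_cons, move_prod hf r i r' hr']

theorem moves_prod (hf : CoxRel f) : ∀ (m R R' : List ℕ),
    moves R m = some R' → (R'.map f).prod = (R.map f).prod
  | [], R, R', h => by rw [moves, Option.some.injEq] at h; rw [h]
  | i :: is, R, R', h => by
    rw [moves, Option.bind_eq_some_iff] at h
    obtain ⟨R₁, h₁, h₂⟩ := h
    rw [moves_prod hf is R₁ R' h₂, move_prod hf R i R₁ h₁]

theorem push_prod (hf : CoxRel f) (s : ℕ) (R : List ℕ) : ((push s R).map f).prod = f s * (R.map f).prod := by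
  cases R with
  | nil => simp [push]
  | cons t r =>
    rw [push]
    split_ifs with h
    · rw [← Nat.eq_of_beq_eq_true h, List.map_cons, List.prod_cons, ← mul_assoc, hf.sq, one_mul]
    · simp

theorem reduceBy_prod (hf : CoxRel f) : ∀ (w : List ℕ) (ms : List (List ℕ)) (R : List ℕ),
    reduceBy w ms = some R → (R.map f).prod = (w.map f).prod
  | [], _, R, h => by rw [reduceBy, Option.some.injEq] at h; rw [← h]
  | s :: w, m :: ms, R, h => by
    rw [reduceBy, Option.bind_eq_some_iff] at h
    obtain ⟨R₁, h₁, h₂⟩ := h
    rw [Option.map_eq_some_iff] at h₂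
    obtain ⟨R₂, h₂, rfl⟩ := h₂
    rw [push_prod hf, moves_prod hf m R₁ R₂ h₂, reduceBy_prod hf w ms R₁ h₁, List.map_cons, List.prod_cons]
  | _ :: _, [], R, h => by rw [reduceBy] at h; exact absurd h (by simp)

/-- A word reduced to the empty word has value one. -/
theorem prod_eq_one (hf : CoxRel f) {w : List ℕ} {ms : List (List ℕ)}
    (h : (reduceBy w ms == some []) = true) : (w.map f).prod = 1 := by
  rw [← reduceBy_prod hf w ms [] (by simpa using h)]
  rfl

end CfsgLib.Recog.UsixMult
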