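import Cfsg.Agent.Lib.Recog.UsixMult.Data
import Cfsg.Agent.Lib.Recog.UsixMult.Moves
import Cfsg.Agent.Lib.Recog.FiThree.Mult.Data
import Cfsg.Agent.Lib.Recog.SporBound.Fi22U6.Checks

/-!
# Kernel checks on eight transvections of SU(6, 2)

Owner: helper6.
-/

set_option autoImplicit false
set_option maxRecDepth 20000
set_option Elab.async false

namespace CfsgLib.Recog.UsixMult

open CfsgLib.Recog.SporBound.Fi22U6 CfsgLib.ThreeTrans.CosetIndex

/-- The row of a letter. -/
def nrow (x : ℕ) : ℕ := nrows.getD x 0

/-- A basis vector as a list. -/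
def basisL (i : ℕ) : List F4 := lvec (4 ^ i)

/-- A word acts on the six basis vectors as a scalar. -/
noncomputable def scalOK (l : F4) (w : List ℕ) : Bool :=
  (List.range 6).all fun i => limg (w.map nrow) (basisL i) == (basisL i).map (l * ·)

/-- The palindrome of a reflection. -/
def palOf (e : List ℕ × ℕ) : List ℕ := e.1 ++ [e.2] ++ e.1.reverse

/-- The word of the seven orthogonal reflections. -/
def orthWord : List ℕ := orthU.flatMap palOf

/-- The relator of a pair of letters. -/
def pairWord (x y : ℕ) : List ℕ :=
  if Nat.beq x y then [x, x] else if adj x y then [x, y, x, y, x, y] else [x, y, x, y]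

/-- Braid chains from the first letter. -/
def chainU : ℕ → List ℕ
  | 1 => [0, 1]
  | 2 => [1, 2, 0, 1]
  | 3 => [2, 3, 1, 2, 0, 1]
  | 4 => [3, 4, 2, 3, 1, 2, 0, 1]
  | 5 => [1, 5, 0, 1]
  | 6 => [5, 6, 1, 5, 0, 1]
  | 7 => [1, 7, 0, 1]
  | _ => []

/-- The word of a generator of the centraliser. -/
def centW (k : ℕ) : List ℕ := centWords.getD k []

/-- Pairs of generators of the centraliser joined by a braid relation. -/
def centPairs : List (ℕ × ℕ) := [(2, 1), (2, 3), (2, 7), (2, 8), (7, 4), (7, 5), (7, 6)]

/-- The word of odd length in the centraliser. -/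
def oddWord : List ℕ := oddIdx.flatMap centW

/-- Words with value one. -/
def oneWords : List (List ℕ) :=
  ((List.range 8).flatMap fun x => (List.range 8).map fun y => pairWord x y) ++ [relA, relW] ++
  ((List.range 8).map fun x => chainU x ++ [0] ++ (chainU x).reverse ++ [x]) ++
  (centPairs.map fun p => centW p.1 ++ centW p.2 ++ (centW p.1 ++ centW p.2) ++ (centW p.1 ++ centW p.2)) ++
  (centWords.map fun w => w ++ [0] ++ w ++ [0]) ++ [oddWord] ++
  ((List.range 7).flatMap fun i => (List.range 7).map fun j =>
    palOf (orthU.getD i ([], 0)) ++ palOf (orthU.getD j ([], 0)) ++ palOf (orthU.getD i ([], 0)) ++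
      palOf (orthU.getD j ([], 0)))

theorem one_ok : oneWords.all (scalOK F4.one) = true := by decide +kernel

theorem relB_ok : scalOK F4.om relB = true := by decide +kernel

theorem relC_ok : scalOK F4.om' relC = true := by decide +kernel

theorem letters_ok : (oneWords ++ [relB, relC, orthWord] ++ centWords).all (fun w => w.all (Nat.blt · 8)) = true := by
  decide +kernel

theorem cent_pal : centWords.all (fun w => w.reverse == w) = true := by decide +kernel

theorem orth_len : orthU.length = 7 ∧ orthU.all (fun e => Nat.blt e.2 8) = true := by decide +kernel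

theorem odd_idx : oddIdx.all (fun k => Nat.blt 0 k && Nat.blt k 9) = true ∧ oddIdx.length = 2 * 6 + 1 := by
  decide +kernel

theorem seven_red : (reduceBy (relW ++ orthWord) FiThree.Mult.certE == some []) = true := by decide +kernel

theorem nrows_ok : (List.range 8).all (fun x => Nat.blt (nrow x) 3510 && FiHat3510.mask0.testBit (nrow x)) = true := by
  decide +kernel

/-- A step of the tree. -/
noncomputable def stepOK (m : ℕ) (e : ℕ × ℕ × ℕ) : Bool :=
  m.testBit e.1 && Nat.blt e.1 3510 && Nat.blt e.2.1 8 && Nat.blt e.2.2 3510 &&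
    FiHat3510.mask0.testBit e.1 && FiHat3510.mask0.testBit e.2.2 &&
    [F4.one, F4.om, F4.om'].any fun l => limg [nrow e.2.1] (lvec (rowCode e.1)) == (lvec (rowCode e.2.2)).map (l * ·)

/-- The steps reach every point. -/
noncomputable def treeOK : ℕ → List (ℕ × ℕ × ℕ) → Bool
  | m, [] => Nat.beq m FiHat3510.mask0
  | m, e :: L => stepOK m e && treeOK (Nat.lor m (Nat.shiftLeft 1 e.2.2)) L

/-- The points of the letters. -/
def seedMask : List ℕ → ℕ
  | [] => 0
  | r :: L => Nat.lor (seedMask L) (Nat.shiftLeft 1 r)

theorem tree_ok : treeOK (seedMask nrows) treeSteps = true := by decide +kernel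

/-- The code of a list. -/
def codeL : List F4 → ℕ
  | [] => 0
  | x :: L => F4.num x + 4 * codeL L

/-- The largest code of a multiple. -/
def maxCode (y : List F4) : ℕ :=
  max (max (codeL (y.map (F4.one * ·))) (codeL (y.map (F4.om * ·)))) (codeL (y.map (F4.om' * ·)))

/-- The key of the transvection at a row. -/
noncomputable def keyOf (r : ℕ) : ℕ :=
  probes.foldl (fun k s => k * 4096 + maxCode (limg [r] (lvec (rowCode s)))) 0

/-- The keys increase. -/
noncomputable def incOK : ℕ → List ℕ → Bool
  | _, [] => true
  | b, r :: L => Nat.ble b (keyOf r) && incOK (keyOf r + 1) L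

theorem inc_ok : incOK 0 sortedRows = true := by decide +kernel

theorem sorted_ok : sortedRows.length = 693 ∧
    sortedRows.all (fun r => Nat.blt r 3510 && FiHat3510.mask0.testBit r) = true := by decide +kernel

end CfsgLib.Recog.UsixMult
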