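import Cfsg.Agent.Lib.Recog.UsixMult.Main

/-!
# Involutions of PSU(6, 2) lift to involutions

An involution of SU(6, 2) is a product of commuting transvections, and the lifts of commuting transvections
commute in every stem extension (owner: helper6).
-/

set_option autoImplicit false
set_option maxRecDepth 20000

namespace CfsgLib.Recog.UsixMult

open Cfsg CfsgLib.Recog.SporBound.Fi22U6
open scoped Matrix

local notation "hf" => Cfsg.hermForm 6 F4 2

theorem sq_add (x y : F4) : (x + y) ^ 2 = x ^ 2 + y ^ 2 := by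
  revert x y; decide +kernel

theorem sq_sq (x : F4) : (x ^ 2) ^ 2 = x := by
  revert x; decide +kernel

theorem add_self_eq (x : F4) : x + x = 0 := by
  revert x; decide +kernel

theorem hf_add_left (x y z : Fin 6 → F4) : hf (x + y) z = hf x z + hf y z := by
  simp only [Cfsg.hermForm, ← Finset.sum_add_distrib, Pi.add_apply, add_mul]

theorem hf_add_right (x y z : Fin 6 → F4) : hf x (y + z) = hf x y + hf x z := by
  simp only [Cfsg.hermForm, ← Finset.sum_add_distrib, Pi.add_apply, sq_add, mul_add]

theorem hf_smul_left (c : F4) (x y : Fin 6 → F4) : hf (c • x) y = c * hf x y := by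
  simp only [Cfsg.hermForm, Finset.mul_sum, Pi.smul_apply, smul_eq_mul, mul_assoc]

theorem hf_smul_right (c : F4) (x y : Fin 6 → F4) : hf x (c • y) = c ^ 2 * hf x y := by
  simp only [Cfsg.hermForm, Finset.mul_sum, Pi.smul_apply, smul_eq_mul, mul_pow]
  exact Finset.sum_congr rfl fun i _ => by ring

theorem hf_swap (x y : Fin 6 → F4) : hf y x = (hf x y) ^ 2 := by
  simp only [Cfsg.hermForm, Fin.sum_univ_six, sq_add, mul_pow, sq_sq]
  ring

theorem hf_zero_left (y : Fin 6 → F4) : hf 0 y = 0 := by simp [Cfsg.hermForm]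

theorem hf_nondeg {x : Fin 6 → F4} (h : ∀ y, hf x y = 0) : x = 0 := by
  funext i
  have e := h (Pi.single i 1)
  rw [Cfsg.hermForm, Finset.sum_eq_single i (fun j _ hj => by simp [Pi.single_eq_of_ne hj])
    (fun h => absurd (Finset.mem_univ i) h)] at e
  simpa using e

theorem fadd_self (x : Fin 6 → F4) : x + x = 0 := funext fun i => add_self_eq (x i)

/-- The displacement of a matrix. -/
noncomputable def disp (N : SU6) (x : Fin 6 → F4) : Fin 6 → F4 := mat N *ᵥ x + x

theorem mv_eq (N : SU6) (x : Fin 6 → F4) : mat N *ᵥ x = disp N x + x := by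
  rw [disp, add_assoc, fadd_self, add_zero]

theorem disp_disp {N : SU6} (hN : N * N = 1) (x : Fin 6 → F4) : disp N (disp N x) = 0 := by
  rw [disp, disp, Matrix.mulVec_add, Matrix.mulVec_mulVec, ← mat_mul, hN, mat_one, Matrix.one_mulVec]
  rw [show x + mat N *ᵥ x + (mat N *ᵥ x + x) = (x + x) + (mat N *ᵥ x + mat N *ᵥ x) by abel, fadd_self,
    fadd_self, add_zero]

theorem disp_adj {N : SU6} (hN : N * N = 1) (x y : Fin 6 → F4) : hf (disp N x) y = hf x (disp N y) := by
  have h : hf (mat N *ᵥ x) y = hf x (mat N *ᵥ y) := by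
    rw [← form_eq N x (mat N *ᵥ y), Matrix.mulVec_mulVec, ← mat_mul, hN, mat_one, Matrix.one_mulVec]
  rw [disp, disp, hf_add_left, hf_add_right, h]

theorem disp_orth {N : SU6} (hN : N * N = 1) (x y : Fin 6 → F4) : hf (disp N x) (disp N y) = 0 := by
  rw [disp_adj hN, disp_disp hN]
  simp [Cfsg.hermForm]

theorem disp_add (N : SU6) (x y : Fin 6 → F4) : disp N (x + y) = disp N x + disp N y := by
  rw [disp, disp, disp, Matrix.mulVec_add]
  abel

theorem disp_smul (N : SU6) (c : F4) (x : Fin 6 → F4) : disp N (c • x) = c • disp N x := by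
  rw [disp, disp, Matrix.mulVec_smul, smul_add]

/-- An involution is the product of transvections at displaced vectors. -/
theorem exists_decomp : ∀ (k : ℕ) (N : SU6), {x : Fin 6 → F4 | disp N x ≠ 0}.ncard ≤ k → N * N = 1 →
    ∃ L : List (Fin 6 → F4), N = (L.map tsu).prod ∧ ∀ v ∈ L, v ≠ 0 ∧ ∃ x, v = disp N x := by
  intro k
  induction k with
  | zero =>
    intro N hk hN
    refine ⟨[], eq_of_mulVec fun x => ?_, fun v hv => absurd hv List.not_mem_nil⟩
    have h0 : disp N x = 0 := by
      by_contra hx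
      have := (Set.ncard_eq_zero (Set.toFinite _)).1 (Nat.le_zero.1 hk)
      exact (Set.eq_empty_iff_forall_notMem.1 this) x hx
    rw [List.map_nil, List.prod_nil, mat_one, Matrix.one_mulVec, mv_eq, h0, zero_add]
  | succ k ih =>
    intro N hk hN
    by_cases hall : ∀ x, hf (disp N x) x = 0
    · refine ⟨[], eq_of_mulVec fun x => ?_, fun v hv => absurd hv List.not_mem_nil⟩
      have h0 : disp N x = 0 := hf_nondeg fun y => by
        have hpol : ∀ c : F4, c ^ 2 * hf (disp N x) y + c * (hf (disp N x) y) ^ 2 = 0 := by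
          intro c
          have e := hall (x + c • y)
          have hyx : hf (disp N y) x = (hf (disp N x) y) ^ 2 := by rw [disp_adj hN y x, hf_swap]
          rw [disp_add, disp_smul, hf_add_left, hf_add_right, hf_add_right, hf_smul_left, hf_smul_left,
            hf_smul_right, hf_smul_right, hall x, hall y, hyx, zero_add, mul_zero, mul_zero, add_zero] at e
          exact e
        have key : ∀ a : F4, (1 : F4) ^ 2 * a + 1 * a ^ 2 = 0 → F4.om ^ 2 * a + F4.om * a ^ 2 = 0 → a = 0 := by
          decide +kernel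
        exact key _ (hpol 1) (hpol F4.om)
      rw [List.map_nil, List.prod_nil, mat_one, Matrix.one_mulVec, mv_eq, h0, zero_add]
    · obtain ⟨u, hu⟩ := not_forall.1 hall
      set v := disp N u with hv
      have hv0 : v ≠ 0 := fun e => hu (by rw [e]; exact hf_zero_left u)
      have hvi : hf v v = 0 := disp_orth hN u u
      have huv : hf u v = 1 := by
        have h1 : hf u v = hf v u := (disp_adj hN u u).symm
        have h2 := hf_swap u v
        rw [← h1] at h2
        have key : ∀ a : F4, a = a ^ 2 → a ≠ 0 → a = 1 := by decide +kernel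
        exact key _ h2 (h1 ▸ hu)
      have hNv : mat N *ᵥ v = v := by rw [mv_eq, hv, disp_disp hN, zero_add]
      have hcomm : N * tsu v = tsu v * N := by
        have e := tsu_conj N hvi
        rw [hNv] at e
        calc N * tsu v = N * tsu v * N⁻¹ * N := by group
          _ = _ := by rw [e]
      have hts : tsu v * tsu v = 1 := eq_of_mulVec fun x => by
        rw [mat_mul, ← Matrix.mulVec_mulVec, tsu_apply hvi, tsu_apply hvi, hf_add_left, hf_smul_left, hvi,
          mul_zero, add_zero, mat_one, Matrix.one_mulVec, add_assoc, fadd_self, add_zero]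
      have hsq : N * tsu v * (N * tsu v) = 1 := by
        calc N * tsu v * (N * tsu v) = N * (tsu v * N) * tsu v := by simp only [mul_assoc]
          _ = N * N * (tsu v * tsu v) := by rw [← hcomm]; simp only [mul_assoc]
          _ = 1 := by rw [hN, hts, one_mul]
      set N' := N * tsu v with hN'
      have hN'2 : N' * N' = 1 := hsq
      have hd' : ∀ x, disp N' x = disp N x + hf x v • v := by
        intro x
        rw [disp, hN', mat_mul, ← Matrix.mulVec_mulVec, tsu_apply hvi, Matrix.mulVec_add, Matrix.mulVec_smul, hNv,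
          disp]
        abel
      have hss : {x : Fin 6 → F4 | disp N' x ≠ 0} ⊆ {x : Fin 6 → F4 | disp N x ≠ 0} := fun x hx h0 => hx (by
        rw [hd', h0, zero_add, hv, ← disp_adj hN, h0, hf_zero_left, zero_smul])
      have hsub : {x : Fin 6 → F4 | disp N' x ≠ 0} ⊂ {x : Fin 6 → F4 | disp N x ≠ 0} :=
        (Set.ssubset_iff_of_subset hss).2 ⟨u, hv0, fun h => h (by rw [hd', huv, one_smul, ← hv, fadd_self])⟩
      have hlt := Set.ncard_lt_ncard hsub (Set.toFinite _)
      obtain ⟨L, hL, hLd⟩ := ih N' (by omega) hN'2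
      refine ⟨L ++ [v], ?_, fun w hw => ?_⟩
      · rw [List.map_append, List.prod_append, ← hL, List.map_singleton, List.prod_singleton, hN', mul_assoc, hts,
          mul_one]
      · rcases List.mem_append.1 hw with hw | hw
        · obtain ⟨hw0, x, rfl⟩ := hLd w hw
          exact ⟨hw0, x + hf x v • u, by rw [hd', disp_add, disp_smul, ← hv]⟩
        · rw [List.mem_singleton] at hw
          exact hw ▸ ⟨hv0, u, hv⟩

theorem tsu_commute {N : SU6} (hN : N * N = 1) {v w : Fin 6 → F4} (hv : ∃ x, v = disp N x) (hw : ∃ x, w = disp N x) :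
    tsu v * tsu w = tsu w * tsu v := by
  obtain ⟨x, rfl⟩ := hv
  obtain ⟨y, rfl⟩ := hw
  have hi := disp_orth hN y y
  have e := tsu_conj (tsu (disp N x)) hi
  rw [tsu_apply (disp_orth hN x x), disp_orth hN y x, zero_smul, add_zero] at e
  calc tsu (disp N x) * tsu (disp N y) = tsu (disp N x) * tsu (disp N y) * (tsu (disp N x))⁻¹ * tsu (disp N x) := by
        group
    _ = _ := by rw [e]

theorem isConj_tsu {v : Fin 6 → F4} (hv : v ≠ 0) (hi : hf v v = 0) :
    IsConj (bU 0) (QuotientGroup.mk' (Subgroup.center SU6) (tsu v)) := by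
  obtain ⟨r, hr, l, hl, rfl⟩ := cover hv hi
  rw [tsu_smul (iso_row r.2 hr) hl]
  exact (row_spec r hr).2

/-- An involution of PSU(6, 2) is a product of commuting conjugates of one transvection. -/
theorem exists_comm_list {u : U0} (hu : u * u = 1) : ∃ L : List U0, u = L.prod ∧ (∀ a ∈ L, IsConj (bU 0) a) ∧
    ∀ a ∈ L, ∀ b ∈ L, a * b = b * a := by
  obtain ⟨M, rfl⟩ := QuotientGroup.mk'_surjective (Subgroup.center SU6) u
  have hz : M * M ∈ Subgroup.center SU6 := (QuotientGroup.eq_one_iff _).1 (by
    rw [← QuotientGroup.mk'_apply, map_mul]; exact hu)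
  obtain ⟨μ, hμ, hm⟩ := scalar_of_central hz
  set z := M * M with hzdef
  have hz3 : z * z * z = 1 := eq_of_mat (by
    rw [mat_mul, mat_mul, hm, mat_one]
    simp only [Matrix.smul_mul, Matrix.mul_smul, Matrix.one_mul, smul_smul]
    rw [(show ∀ m : F4, m ≠ 0 → m * (m * m) = 1 by decide +kernel) μ hμ, one_smul])
  have hcz : M * z = z * M := Subgroup.mem_center_iff.1 hz M
  have hN : M * z * (M * z) = 1 := by
    calc M * z * (M * z) = M * (z * M) * z := by simp only [mul_assoc]
      _ = M * M * z * z := by rw [← hcz]; simp only [mul_assoc]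
      _ = 1 := by rw [← hzdef]; exact hz3
  have himg : QuotientGroup.mk' (Subgroup.center SU6) (M * z) = QuotientGroup.mk' (Subgroup.center SU6) M := by
    rw [map_mul, show QuotientGroup.mk' (Subgroup.center SU6) z = 1 from (QuotientGroup.eq_one_iff _).2 hz, mul_one]
  obtain ⟨L, hL, hLd⟩ := exists_decomp _ (M * z) le_rfl hN
  refine ⟨L.map fun v => QuotientGroup.mk' (Subgroup.center SU6) (tsu v), ?_, ?_, ?_⟩
  · rw [← himg, hL, map_list_prod, List.map_map]
    rfl
  · intro a ha
    obtain ⟨v, hv, rfl⟩ := List.mem_map.1 ha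
    obtain ⟨hv0, x, rfl⟩ := hLd v hv
    exact isConj_tsu hv0 (disp_orth hN x x)
  · intro a ha b hb
    obtain ⟨v, hv, rfl⟩ := List.mem_map.1 ha
    obtain ⟨w, hw, rfl⟩ := List.mem_map.1 hb
    rw [← map_mul, ← map_mul, tsu_commute hN (hLd v hv).2 (hLd w hw).2]

/-- In a stem extension of PSU(6, 2) every involution lifts to an element of square one. -/
theorem exists_sq_one_lift {E : Type*} [Group E] (σ : E →* U0) (hσ : Cfsg.IsStemExtension σ) {u : U0}
    (hu : u * u = 1) : ∃ y : E, σ y = u ∧ y * y = 1 := by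
  classical
  obtain ⟨Φ, -, hΦ⟩ := exists_cover_hom σ hσ
  obtain ⟨hs, hk, -⟩ := hσ
  set B := Φ (bP 0) with hBdef
  have hB : σ B = bU 0 := by rw [hΦ, psi_bP]
  have hB2 : B * B = 1 := by rw [hBdef, ← map_mul, bP_sq, map_one]
  obtain ⟨L, rfl, hconj, hcomm⟩ := exists_comm_list hu
  choose g hg using fun a : {a // a ∈ L} => isConj_iff.1 (hconj a.1 a.2)
  let e : {a // a ∈ L} → E := fun a => Function.surjInv hs (g a)
  let lift : {a // a ∈ L} → E := fun a => e a * B * (e a)⁻¹
  have hlift : ∀ a, σ (lift a) = a.1 := fun a => by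
    simp only [lift, e, map_mul, map_inv, Function.surjInv_eq hs, hB, hg a]
  refine ⟨(L.attach.map lift).prod, ?_, ?_⟩
  · rw [map_list_prod, List.map_map]
    conv_rhs => rw [← List.attach_map_subtype_val L]
    exact congrArg List.prod (List.map_congr_left fun a _ => hlift a)
  · rw [prod_sq (z := 1) _ ?_ ?_, one_pow]
    · intro y hy
      obtain ⟨a, -, rfl⟩ := List.mem_map.1 hy
      calc e a * B * (e a)⁻¹ * (e a * B * (e a)⁻¹) = e a * (B * B) * (e a)⁻¹ := by group
        _ = 1 := by rw [hB2, mul_one, mul_inv_cancel]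
    · intro y hy w hw
      obtain ⟨a, -, rfl⟩ := List.mem_map.1 hy
      obtain ⟨b, -, rfl⟩ := List.mem_map.1 hw
      refine conj_comm σ hs hk hB ?_
      have h1 : σ (e b) * bU 0 * (σ (e b))⁻¹ = b.1 := by simp only [e, Function.surjInv_eq hs, hg b]
      rw [h1, hlift a, hcomm a.1 a.2 b.1 b.2]

end CfsgLib.Recog.UsixMult
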