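import Cfsg.Agent.Lib.Recog.UsixMult.Model
import Cfsg.Agent.Lib.Recog.UsixMult.Star
import Cfsg.Prelude.Def_KGroupFacts
import Mathlib.Tactic.Group

/-!
# Every stem extension of PSU(6, 2) is an image of the presented group

Owner: helper6; the class lift follows FiTwoMult.Bound of helper18.
-/

set_option autoImplicit false
set_option maxRecDepth 20000

namespace CfsgLib.Recog.UsixMult

open Cfsg CfsgLib.ThreeTrans.CosetIndex CfsgLib.Recog.SporBound
open scoped commutatorElement

/-- Conjugating word of a reflection. -/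
def refU (e : List ℕ × ℕ) : List ℕ := e.1 ++ chainU e.2

/-- The value of a word. -/
noncomputable abbrev uw (w : List ℕ) : U0 := (w.map bU).prod

theorem chain_spec {x : ℕ} (hx : x < 8) : uw (chainU x) * bU 0 * (uw (chainU x))⁻¹ = bU x := by
  have hmem : chainU x ++ [0] ++ (chainU x).reverse ++ [x] ∈ oneWords := by
    simp only [oneWords, List.mem_append, List.mem_map, List.mem_range]
    exact Or.inl (Or.inl (Or.inl (Or.inl (Or.inr ⟨x, hx, rfl⟩))))
  have e := bU_one_word hmem
  simp only [List.map_append, List.prod_append, List.map_singleton, List.prod_singleton] at e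
  rw [prod_reverse_eq_inv bU bU_rel.sq] at e
  rw [eq_inv_of_mul_eq_one_left e, inv_eq_of_mul_eq_one_right (bU_rel.sq x)]

theorem refU_spec {e : List ℕ × ℕ} (he : e.2 < 8) : uw (refU e) * bU 0 * (uw (refU e))⁻¹ = uw (palOf e) := by
  simp only [uw, refU, palOf, List.map_append, List.prod_append, List.map_singleton, List.prod_singleton]
  rw [prod_reverse_eq_inv bU bU_rel.sq e.1, ← chain_spec he]
  simp only [uw]
  group

theorem orth_letter {i : ℕ} (hi : i < 7) : (orthU.getD i ([], 0)).2 < 8 := by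
  rw [List.getD_eq_getElem _ _ (show i < orthU.length by rw [orth_len.1]; exact hi)]
  simpa using List.all_eq_true.1 orth_len.2 _ (List.getElem_mem (show i < orthU.length by rw [orth_len.1]; exact hi))

theorem palOf_rev (e : List ℕ × ℕ) : (palOf e).reverse = palOf e := by simp [palOf]

theorem orth_pair {i j : ℕ} (hi : i < 7) (hj : j < 7) :
    uw (palOf (orthU.getD i ([], 0))) * uw (palOf (orthU.getD j ([], 0))) =
      uw (palOf (orthU.getD j ([], 0))) * uw (palOf (orthU.getD i ([], 0))) := by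
  have hmem : palOf (orthU.getD i ([], 0)) ++ palOf (orthU.getD j ([], 0)) ++ palOf (orthU.getD i ([], 0)) ++
      palOf (orthU.getD j ([], 0)) ∈ oneWords := by
    simp only [oneWords, List.mem_append, List.mem_flatMap, List.mem_map, List.mem_range]
    exact Or.inr ⟨i, hi, j, hj, rfl⟩
  have e := bU_one_word hmem
  simp only [List.map_append, List.prod_append] at e
  have e' : uw (palOf (orthU.getD i ([], 0))) * uw (palOf (orthU.getD j ([], 0))) *
      (uw (palOf (orthU.getD i ([], 0))) * uw (palOf (orthU.getD j ([], 0)))) = 1 := by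
    rw [← e]; simp only [mul_assoc]
  rw [eq_inv_of_mul_eq_one_left e', mul_inv_rev, ← prod_reverse_eq_inv bU bU_rel.sq,
    ← prod_reverse_eq_inv bU bU_rel.sq, palOf_rev, palOf_rev]

/-- The square of a product of commuting elements with equal squares. -/
theorem prod_sq {E : Type*} [Group E] {z : E} :
    ∀ l : List E, (∀ a ∈ l, a * a = z) → (∀ a ∈ l, ∀ b ∈ l, a * b = b * a) → l.prod * l.prod = z ^ l.length
  | [], _, _ => by simp
  | a :: l, hsq, hc => by
    have ih := prod_sq l (fun b hb => hsq b (List.mem_cons_of_mem _ hb))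
      fun b hb c hc' => hc b (List.mem_cons_of_mem _ hb) c (List.mem_cons_of_mem _ hc')
    have hcl : Commute a l.prod :=
      Commute.list_prod_right _ _ fun b hb => hc a List.mem_cons_self b (List.mem_cons_of_mem _ hb)
    rw [List.prod_cons, List.length_cons, pow_succ', ← ih, ← hsq a List.mem_cons_self]
    calc a * l.prod * (a * l.prod) = a * (l.prod * a) * l.prod := by simp only [mul_assoc]
      _ = _ := by rw [← hcl.eq]; simp only [mul_assoc]

section Ext

variable {E : Type*} [Group E] (σ : E →* U0) (hs : Function.Surjective σ) (hk : σ.ker ≤ Subgroup.center E)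

include hk in
theorem central' {x : E} (hx : σ x = 1) (y : E) : y * x = x * y :=
  Subgroup.mem_center_iff.1 (hk (MonoidHom.mem_ker.2 hx)) y

include hs hk in
theorem stab_comm {B : E} (hB : σ B = bU 0) {e : E} (he : σ e ∈ C0) : e * B = B * e := by
  have hcen : ∀ k : C0, (k : U0) * bU 0 = bU 0 * k := fun k => Subgroup.mem_centralizer_singleton_iff.1 k.2
  let f : C0 → Subgroup.center E := fun h =>
    ⟨Function.surjInv hs h * B * (Function.surjInv hs h)⁻¹ * B⁻¹, hk (MonoidHom.mem_ker.2 (by
      rw [map_mul, map_mul, map_mul, map_inv, map_inv, hB, Function.surjInv_eq hs, hcen h,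
        mul_inv_cancel_right, mul_inv_cancel]))⟩
  have hf : ∀ (h : C0) (d : E), σ d = h → d * B * d⁻¹ * B⁻¹ = (f h : E) := fun h d hd => by
    have hc : σ ((Function.surjInv hs h)⁻¹ * d) = 1 := by
      rw [map_mul, map_inv, hd, Function.surjInv_eq hs, inv_mul_cancel]
    show _ = Function.surjInv hs h * B * (Function.surjInv hs h)⁻¹ * B⁻¹
    set c := (Function.surjInv hs h)⁻¹ * d
    rw [show d = Function.surjInv hs h * c by simp only [c]; group]
    have := central' σ hk hc B
    calc Function.surjInv hs h * c * B * (Function.surjInv hs h * c)⁻¹ * B⁻¹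
        = Function.surjInv hs h * (c * B) * c⁻¹ * (Function.surjInv hs h)⁻¹ * B⁻¹ := by group
      _ = _ := by rw [← this]; group
  have hmul : ∀ h k, f (h * k) = f h * f k := fun h k => by
    refine Subtype.ext ?_
    rw [← hf (h * k) (Function.surjInv hs h * Function.surjInv hs k) (by
      rw [map_mul, Function.surjInv_eq hs, Function.surjInv_eq hs]; rfl),
      show f h * f k = f k * f h from Subtype.ext (Subgroup.mem_center_iff.1 (f k).2 (f h : E))]
    show _ = (f k : E) * (f h : E)
    have hc := Subgroup.mem_center_iff.1 (f k).2 (Function.surjInv hs h)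
    calc Function.surjInv hs h * Function.surjInv hs k * B * (Function.surjInv hs h * Function.surjInv hs k)⁻¹ * B⁻¹
        = Function.surjInv hs h * (f k : E) * B * (Function.surjInv hs h)⁻¹ * B⁻¹ := by simp only [f]; group
      _ = _ := by rw [hc]; simp only [f]; group
  letI : CommGroup (Subgroup.center E) :=
    { (inferInstance : Group (Subgroup.center E)) with
      mul_comm := fun x y => Subtype.ext (Subgroup.mem_center_iff.1 y.2 x) }
  have h1 : f ⟨σ e, he⟩ = 1 := hom_C0_trivial (MonoidHom.mk' f hmul) (by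
    refine Subtype.ext ?_
    show (f _ : E) = _
    rw [← hf ⟨bU 0, Subgroup.mem_centralizer_singleton_iff.2 rfl⟩ B hB]
    simp) ⟨σ e, he⟩
  have h2 := hf ⟨σ e, he⟩ e rfl
  rw [h1, OneMemClass.coe_one, mul_inv_eq_one, mul_inv_eq_iff_eq_mul] at h2
  exact h2

variable {B : E} (hB : σ B = bU 0)

include hs hk hB in
theorem conj_eq {e d : E} (h : σ e * bU 0 * (σ e)⁻¹ = σ d * bU 0 * (σ d)⁻¹) : e * B * e⁻¹ = d * B * d⁻¹ := by
  have hm : σ (d⁻¹ * e) ∈ C0 := by
    rw [Subgroup.mem_centralizer_singleton_iff, map_mul, map_inv]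
    calc (σ d)⁻¹ * σ e * bU 0 = (σ d)⁻¹ * (σ e * bU 0 * (σ e)⁻¹) * σ e := by group
      _ = _ := by rw [h]; group
  have := stab_comm σ hs hk hB hm
  calc e * B * e⁻¹ = d * (d⁻¹ * e * B) * (d⁻¹ * e)⁻¹ * d⁻¹ := by group
    _ = _ := by rw [this]; group

include hs hk hB in
theorem conj_comm {e d : E} (h : σ d * (σ e * bU 0 * (σ e)⁻¹) = σ e * bU 0 * (σ e)⁻¹ * σ d) :
    d * (e * B * e⁻¹) = e * B * e⁻¹ * d := by
  have := conj_eq σ hs hk hB (e := d * e) (d := e) (by
    rw [map_mul]
    calc σ d * σ e * bU 0 * (σ d * σ e)⁻¹ = σ d * (σ e * bU 0 * (σ e)⁻¹) * (σ d)⁻¹ := by group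
      _ = _ := by rw [h, mul_inv_cancel_right])
  calc d * (e * B * e⁻¹) = (d * e * B * (d * e)⁻¹) * d := by group
    _ = _ := by rw [this]

include hs hk hB in
theorem conj_braid {e d : E} (h : σ (e * B * e⁻¹) * (σ (d * B * d⁻¹) * σ (e * B * e⁻¹)) =
      σ (d * B * d⁻¹) * (σ (e * B * e⁻¹) * σ (d * B * d⁻¹))) :
    e * B * e⁻¹ * (d * B * d⁻¹ * (e * B * e⁻¹)) = d * B * d⁻¹ * (e * B * e⁻¹ * (d * B * d⁻¹)) := by
  set x := e * B * e⁻¹ with hx
  set y := d * B * d⁻¹ with hy
  have hxs : σ x = σ e * bU 0 * (σ e)⁻¹ := by rw [hx, map_mul, map_mul, map_inv, hB]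
  have hys : σ y = σ d * bU 0 * (σ d)⁻¹ := by rw [hy, map_mul, map_mul, map_inv, hB]
  have key : x * y * x * (x * y)⁻¹ = y := by
    have := conj_eq σ hs hk hB (e := x * y * e) (d := d) (by
      rw [map_mul, map_mul]
      calc σ x * σ y * σ e * bU 0 * (σ x * σ y * σ e)⁻¹ = σ x * (σ y * σ x) * (σ x * σ y)⁻¹ := by
            rw [hxs]; group
        _ = σ y := by rw [h]; group
        _ = _ := hys)
    calc x * y * x * (x * y)⁻¹ = x * y * e * B * (x * y * e)⁻¹ := by rw [hx]; group
      _ = _ := this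
  calc x * (y * x) = x * y * x * (x * y)⁻¹ * (x * y) := by group
    _ = _ := by rw [key]

end Ext

theorem braid_triangle {M : Type*} [Group M] {p q : M} (hp : p * p = 1) (hq : q * q = 1)
    (h : p * (q * p) = q * (p * q)) : q * p * (q * p) * (q * p) = 1 := by
  calc q * p * (q * p) * (q * p) = q * (p * (q * p)) * (q * p) := by group
    _ = q * (q * (p * q)) * (q * p) := by rw [h]
    _ = (q * q) * p * (q * q) * p := by group
    _ = 1 := by rw [hq, one_mul, mul_one, hp]

theorem braid_of_triangle {M : Type*} [Group M] {p q : M} (hp : p * p = 1) (hq : q * q = 1)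
    (h : q * p * q * (p * q * p) = 1) : p * (q * p) = q * (p * q) := by
  have e := eq_inv_of_mul_eq_one_left h
  rw [mul_inv_rev, mul_inv_rev, inv_eq_of_mul_eq_one_right hp, inv_eq_of_mul_eq_one_right hq] at e
  rw [← e, mul_assoc]

/-- The map from the presented group. -/
theorem exists_psi : ∃ ψ : Star →* U0, ∀ x, ψ (bP x) = bU x :=
  exists_starHom bU (fun x hx => by rw [bU, bS_big hx, map_one]) (fun _ _ hx hy => bU_one_word (pairWord_mem hx hy))
    (bU_one_word (by simp [oneWords])) (bU_one_word (by simp [oneWords]))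
    (fun y => by rw [bU_relB]; exact Commute.one_left _) (fun y => by rw [bU_relC]; exact Commute.one_left _)

/-- The projection of the presented group. -/
noncomputable def psi : Star →* U0 := exists_psi.choose

theorem psi_bP (x : ℕ) : psi (bP x) = bU x := exists_psi.choose_spec x

theorem psi_surjective : Function.Surjective psi := by
  rw [← MonoidHom.range_eq_top, eq_top_iff, ← closure_bU, Subgroup.closure_le]
  rintro _ ⟨x, rfl⟩
  exact ⟨bP x, psi_bP x⟩

/-- A stem extension is an image of the presented group. -/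
theorem exists_cover_hom {E : Type*} [Group E] (σ : E →* U0) (hσ : Cfsg.IsStemExtension σ) :
    ∃ Φ : Star →* E, Function.Surjective Φ ∧ ∀ u, σ (Φ u) = psi u := by
  classical
  obtain ⟨hs, hk, hcom⟩ := hσ
  set lf := Function.surjInv hs with hlf
  have hl : ∀ g, σ (lf g) = g := Function.surjInv_eq hs
  set B₀ := lf (bU 0)
  have hB₀ : σ B₀ = bU 0 := hl _
  set z := B₀ * B₀ with hz
  have hz1 : σ z = 1 := by rw [hz, map_mul, hB₀, bU_rel.sq]
  set c : ℕ → E := fun i => lf (uw (refU (orthU.getD i ([], 0)))) with hc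
  set θ := ((List.range 7).map fun i => c i * B₀ * (c i)⁻¹).prod with hθ
  have orth_range : orthU = (List.range 7).map fun i => orthU.getD i ([], 0) := by decide +kernel
  have hflat : ∀ {M : Type} [Monoid M] (f : ℕ → M), (orthWord.map f).prod =
      ((List.range 7).map fun i => ((palOf (orthU.getD i ([], 0))).map f).prod).prod := by
    intro M _ f
    rw [orthWord]
    conv_lhs => rw [orth_range]
    rw [List.flatMap_map, List.map_flatMap, List.flatMap_def, List.prod_flatten, List.map_map]
    rfl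
  have hθ1 : σ θ = 1 := by
    have h7 : uw orthWord = 1 := by
      have h : ((relW ++ orthWord).map bU).prod = 1 := prod_eq_one bU_rel seven_red
      rw [List.map_append, List.prod_append, bU_one_word (show relW ∈ oneWords by simp [oneWords]), one_mul] at h
      exact h
    rw [hθ, map_list_prod, List.map_map, ← h7, uw, hflat]
    refine congrArg List.prod (List.map_congr_left fun i hi => ?_)
    rw [Function.comp_apply, map_mul, map_mul, map_inv, hc, hl, hB₀, refU_spec (orth_letter (List.mem_range.1 hi))]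
  have hθθ : θ * θ = z ^ 7 := by
    rw [hθ, prod_sq (z := z)]
    · simp
    · intro u hu
      obtain ⟨i, -, rfl⟩ := List.mem_map.1 hu
      calc c i * B₀ * (c i)⁻¹ * (c i * B₀ * (c i)⁻¹) = c i * z * (c i)⁻¹ := by rw [hz]; group
        _ = z := by rw [central' σ hk hz1, mul_inv_cancel_right]
    · intro u hu v hv
      obtain ⟨i, hi, rfl⟩ := List.mem_map.1 hu
      obtain ⟨j, hj, rfl⟩ := List.mem_map.1 hv
      refine conj_comm σ hs hk hB₀ ?_
      rw [map_mul, map_mul, map_inv, hB₀, hc, hl, hl, refU_spec (orth_letter (List.mem_range.1 hi)),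
        refU_spec (orth_letter (List.mem_range.1 hj))]
      exact orth_pair (List.mem_range.1 hi) (List.mem_range.1 hj)
  set ζ := θ⁻¹ * z ^ 3 with hζ
  have hζ1 : σ ζ = 1 := by rw [hζ, map_mul, map_inv, map_pow, hθ1, hz1, inv_one, one_pow, one_mul]
  have hzθ : Commute z θ := (central' σ hk hz1 θ).symm
  set B := B₀ * ζ with hBdef
  have hB : σ B = bU 0 := by rw [hBdef, map_mul, hB₀, hζ1, mul_one]
  have hζζ : ζ * ζ = z⁻¹ := by
    rw [hζ, show θ⁻¹ * z ^ 3 * (θ⁻¹ * z ^ 3) = (θ * θ)⁻¹ * (z ^ 3 * z ^ 3) by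
      rw [mul_inv_rev]
      calc θ⁻¹ * z ^ 3 * (θ⁻¹ * z ^ 3) = θ⁻¹ * (z ^ 3 * θ⁻¹) * z ^ 3 := by simp only [mul_assoc]
        _ = _ := by rw [((hzθ.inv_right).pow_left 3).eq]; simp only [mul_assoc], hθθ, ← pow_add]
    group
  have hBsq : B * B = 1 := by
    rw [hBdef, show B₀ * ζ * (B₀ * ζ) = B₀ * (ζ * B₀) * ζ by group, ← central' σ hk hζ1 B₀,
      show B₀ * (B₀ * ζ) * ζ = z * (ζ * ζ) by rw [hz]; group, hζζ, mul_inv_cancel]
  set β : ℕ → E := fun x => if x < 8 then lf (uw (chainU x)) * B * (lf (uw (chainU x)))⁻¹ else 1 with hβ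
  have hβx : ∀ x, x < 8 → β x = lf (uw (chainU x)) * B * (lf (uw (chainU x)))⁻¹ := fun x hx => if_pos hx
  have hbig : ∀ x, 8 ≤ x → β x = 1 := fun x hx => if_neg (Nat.not_lt.2 hx)
  have hβσ : ∀ x, σ (β x) = bU x := fun x => by
    rcases Nat.lt_or_ge x 8 with hx | hx
    · rw [hβx x hx, map_mul, map_mul, map_inv, hl, hB, chain_spec hx]
    · rw [hbig x hx, map_one, bU, bS_big hx, map_one]
  have hrel : CoxRel β := by
    refine ⟨fun x => ?_, fun x y h => ?_, fun x y h => ?_⟩
    · rcases Nat.lt_or_ge x 8 with hx | hx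
      · rw [hβx x hx]
        calc lf (uw (chainU x)) * B * (lf (uw (chainU x)))⁻¹ * (lf (uw (chainU x)) * B * (lf (uw (chainU x)))⁻¹)
            = lf (uw (chainU x)) * (B * B) * (lf (uw (chainU x)))⁻¹ := by group
          _ = 1 := by rw [hBsq, mul_one, mul_inv_cancel]
      · rw [hbig x hx, one_mul]
    · obtain ⟨hx, hy, -⟩ := adj_lt h
      rw [hβx x hx, hβx y hy]
      refine conj_braid σ hs hk hB ?_
      rw [← hβx x hx, ← hβx y hy, hβσ, hβσ]
      exact bU_rel.braid x y h
    · rcases Nat.lt_or_ge x 8 with hx | hx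
      swap
      · rw [hbig x hx, one_mul, mul_one]
      rcases Nat.lt_or_ge y 8 with hy | hy
      swap
      · rw [hbig y hy, one_mul, mul_one]
      rw [hβx y hy]
      exact conj_comm σ hs hk hB (by rw [hβσ, hl, chain_spec hy]; exact bU_rel.comm x y h)
  have hβw : ∀ w : List ℕ, σ (w.map β).prod = uw w := fun w => by
    rw [map_list_prod, List.map_map]
    exact congrArg List.prod (List.map_congr_left fun x _ => hβσ x)
  have hrev : ∀ w : List ℕ, (w.reverse.map β).prod = ((w.map β).prod)⁻¹ := fun w =>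
    prod_reverse_eq_inv β hrel.sq w
  have hpal : ∀ e : List ℕ × ℕ, e.2 < 8 → ∀ d : E, σ d = uw (refU e) → ((palOf e).map β).prod = d * B * d⁻¹ := by
    intro e he d hd
    rw [palOf, List.map_append, List.map_append, List.prod_append, List.prod_append, hrev, List.map_singleton,
      List.prod_singleton, hβx _ he]
    rw [← conj_eq σ hs hk hB (e := (e.1.map β).prod * lf (uw (chainU e.2))) (d := d) (by
      rw [map_mul, hβw, hl, hd]
      simp only [uw, refU, List.map_append, List.prod_append])]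
    group
  have horth : (orthWord.map β).prod = 1 := by
    rw [orthWord]
    conv_lhs => rw [orth_range]
    rw [List.flatMap_map, List.map_flatMap, List.flatMap_def, List.prod_flatten, List.map_map]
    have e : (List.range 7).map (List.prod ∘ fun i => (palOf (orthU.getD i ([], 0))).map β) =
        (List.range 7).map fun i => c i * B₀ * (c i)⁻¹ * ζ := List.map_congr_left fun i hi => by
      rw [Function.comp_apply, hpal _ (orth_letter (List.mem_range.1 hi)) (c i) (hl _), hBdef,
        show c i * (B₀ * ζ) * (c i)⁻¹ = c i * B₀ * (ζ * (c i)⁻¹) by group, ← central' σ hk hζ1 ((c i)⁻¹), ← mul_assoc]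
    rw [e]
    have key : ∀ l : List ℕ, (l.map fun i => c i * B₀ * (c i)⁻¹ * ζ).prod =
        (l.map fun i => c i * B₀ * (c i)⁻¹).prod * ζ ^ l.length := by
      intro l
      induction l with
      | nil => simp
      | cons i l ih =>
        simp only [List.map_cons, List.prod_cons, ih, List.length_cons, pow_succ']
        rw [mul_assoc _ ζ, ← mul_assoc ζ, ← central' σ hk hζ1]
        simp only [mul_assoc]
    rw [key, ← hθ, List.length_range, show ζ ^ 7 = ((ζ * ζ) ^ 3) * ζ by rw [← pow_two, ← pow_mul, ← pow_succ],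
      hζζ, hζ]
    have : θ * ((z⁻¹) ^ 3 * (θ⁻¹ * z ^ 3)) = 1 := by
      rw [← mul_assoc ((z⁻¹) ^ 3), ((hzθ.inv_left).inv_right.pow_left 3).eq]
      group
    exact this
  have hW : (relW.map β).prod = 1 := by
    have h := prod_eq_one hrel seven_red
    rwa [List.map_append, List.prod_append, horth, mul_one] at h
  have hA : (relA.map β).prod = 1 := by
    have e5 : β 5 * β 1 * β 5 = (β 5 * lf (uw (chainU 1))) * B * (β 5 * lf (uw (chainU 1)))⁻¹ := by
      rw [mul_inv_rev, inv_eq_of_mul_eq_one_right (hrel.sq 5), hβx 1 (by omega)]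
      simp only [mul_assoc]
    have hbr : (β 5 * β 1 * β 5) * (β 7 * (β 5 * β 1 * β 5)) = β 7 * ((β 5 * β 1 * β 5) * β 7) := by
      rw [e5, hβx 7 (by omega)]
      refine conj_braid σ hs hk hB ?_
      rw [← e5, ← hβx 7 (by omega), map_mul, map_mul, hβσ, hβσ, hβσ]
      have e := bU_one_word (show relA ∈ oneWords by simp [oneWords])
      simp only [relA, List.map_cons, List.map_nil, List.prod_cons, List.prod_nil, mul_one] at e
      set p := bU 5 * bU 1 * bU 5 with hp
      set q := bU 7
      have hpp : p * p = 1 := by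
        rw [hp, show bU 5 * bU 1 * bU 5 * (bU 5 * bU 1 * bU 5) = bU 5 * (bU 1 * (bU 5 * bU 5) * bU 1) * bU 5 by
          simp only [mul_assoc], bU_rel.sq, mul_one, bU_rel.sq, mul_one, bU_rel.sq]
      have hqq : q * q = 1 := bU_rel.sq 7
      have e' : q * p * q * (p * q * p) = 1 := by rw [← e, hp]; simp only [mul_assoc]
      exact braid_of_triangle hpp hqq e'
    have hpp : β 5 * β 1 * β 5 * (β 5 * β 1 * β 5) = 1 := by
      rw [show β 5 * β 1 * β 5 * (β 5 * β 1 * β 5) = β 5 * (β 1 * (β 5 * β 5) * β 1) * β 5 by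
        simp only [mul_assoc], hrel.sq, mul_one, hrel.sq, mul_one, hrel.sq]
    have := braid_triangle hpp (hrel.sq 7) hbr
    rw [← this]
    simp only [relA, List.map_cons, List.map_nil, List.prod_cons, List.prod_nil, mul_one, mul_assoc]
  have hcentral : ∀ w, uw w = 1 → ∀ y, Commute (w.map β).prod (β y) := fun w hw y =>
    (central' σ hk (by rw [hβw, hw]) (β y)).symm
  obtain ⟨Φ, hΦ⟩ := exists_starHom β hbig (fun x y hx hy => by
    unfold pairWord
    by_cases hxy : Nat.beq x y = true
    · rw [if_pos hxy, Nat.eq_of_beq_eq_true hxy]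
      simpa using hrel.sq y
    rw [if_neg hxy]
    by_cases ha : adj x y = true
    · rw [if_pos ha]
      have := braid_triangle (hrel.sq y) (hrel.sq x) (hrel.braid x y ha).symm
      simpa [mul_assoc] using this
    · rw [if_neg ha]
      have := hrel.comm x y (Bool.eq_false_iff.2 ha)
      calc ([x, y, x, y].map β).prod = β x * β y * (β x * β y) := by simp [mul_assoc]
        _ = β x * β y * (β y * β x) := by rw [this]
        _ = β x * (β y * β y) * β x := by simp only [mul_assoc]
        _ = 1 := by rw [hrel.sq, mul_one, hrel.sq]) hA hW (hcentral _ bU_relB) (hcentral _ bU_relC)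
  have hcomp : ∀ u, σ (Φ u) = psi u := by
    have : (σ.comp Φ) = psi := by
      refine MonoidHom.eq_of_eqOn_dense closure_bP ?_
      rintro _ ⟨x, rfl⟩
      rw [MonoidHom.comp_apply, hΦ, hβσ, psi_bP]
    exact fun u => DFunLike.congr_fun this u
  refine ⟨Φ, ?_, hcomp⟩
  have hrange : ∀ x : E, ∃ u, ∃ k ∈ σ.ker, x = Φ u * k := by
    intro x
    obtain ⟨u, hu⟩ := psi_surjective (σ x)
    exact ⟨u, (Φ u)⁻¹ * x, by rw [MonoidHom.mem_ker, map_mul, map_inv, hcomp, hu, inv_mul_cancel],
      by rw [mul_inv_cancel_left]⟩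
  have hcomm : commutator E ≤ Φ.range := by
    rw [commutator_def, Subgroup.commutator_le]
    intro x _ y _
    obtain ⟨u, k, hku, rfl⟩ := hrange x
    obtain ⟨v, l, hlv, rfl⟩ := hrange y
    have hc1 := Subgroup.mem_center_iff.1 (hk hku)
    have hc2 := Subgroup.mem_center_iff.1 (hk hlv)
    have : ⁅Φ u * k, Φ v * l⁆ = ⁅Φ u, Φ v⁆ := by
      simp only [commutatorElement_def, mul_inv_rev]
      calc Φ u * k * (Φ v * l) * (k⁻¹ * (Φ u)⁻¹) * (l⁻¹ * (Φ v)⁻¹)
          = Φ u * (k * (Φ v * l)) * (k⁻¹ * (Φ u)⁻¹) * (l⁻¹ * (Φ v)⁻¹) := by group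
        _ = Φ u * Φ v * (l * (Φ u)⁻¹) * (l⁻¹ * (Φ v)⁻¹) := by rw [← hc1]; group
        _ = _ := by rw [← hc2]; group
    rw [this, ← map_commutatorElement]
    exact ⟨_, rfl⟩
  intro x
  obtain ⟨u, k, hku, rfl⟩ := hrange x
  obtain ⟨v, hv⟩ := hcomm (hcom hku)
  exact ⟨u * v, by rw [map_mul, hv]⟩

end CfsgLib.Recog.UsixMult
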