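import Cfsg.Agent.Lib.Recog.UsixMult.Checks
import Cfsg.Agent.Lib.Recog.SporBound.Fi22U6.Group
import Cfsg.Agent.Lib.Recog.SporBound.Presented
import Cfsg.Agent.Lib.Recog.SporBound.UsixCent.Valid

/-!
# Eight transvections generating SU(6, 2) and the centraliser of one of them in PSU(6, 2)

Owner: helper6.
-/

set_option autoImplicit false
set_option maxRecDepth 20000

namespace CfsgLib.Recog.UsixMult

open Cfsg CfsgLib.Recog.SporBound CfsgLib.Recog.SporBound.Fi22U6 CfsgLib.ThreeTrans.CosetIndex
open scoped Matrix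

/-- The simple group. -/
abbrev U0 : Type := Cfsg.PSU 6 F4 2

/-- The transvections. -/
noncomputable def bS (x : ℕ) : SU6 := if x < 8 then tsu (V (nrow x)) else 1

/-- Their images. -/
noncomputable def bU (x : ℕ) : U0 := QuotientGroup.mk' (Subgroup.center SU6) (bS x)

theorem nrow_mem {x : ℕ} (hx : x < 8) : nrow x < 3510 ∧ inO (nrow x) := by
  have := List.all_eq_true.1 nrows_ok x (List.mem_range.2 hx)
  rw [Bool.and_eq_true] at this
  exact ⟨by simpa using this.1, this.2⟩

theorem word_eq {w : List ℕ} (hw : ∀ x ∈ w, x < 8) : (w.map bS).prod = Fi22U6.tprod (w.map nrow) := by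
  rw [Fi22U6.tprod, List.map_map]
  exact congrArg List.prod (List.map_congr_left fun x hx => if_pos (hw x hx))

theorem letters_lt {w : List ℕ} (h : w ∈ oneWords ++ [relB, relC, orthWord] ++ centWords) : ∀ x ∈ w, x < 8 :=
  fun x hx => by simpa using List.all_eq_true.1 (List.all_eq_true.1 letters_ok w h) x hx

theorem toF_basis : ∀ i : Fin 6, toF (basisL i.val) = Pi.single i (1 : F4) := by decide +kernel

theorem mat_of_scal {l : F4} {w : List ℕ} (hw : ∀ x ∈ w, x < 8) (h : scalOK l w = true) :
    mat ((w.map bS).prod) = l • (1 : Matrix (Fin 6) (Fin 6) F4) := by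
  ext i j
  obtain ⟨-, he⟩ := tprod_apply (w.map nrow) (fun r hr => by
    obtain ⟨x, hx, rfl⟩ := List.mem_map.1 hr
    exact nrow_mem (hw x hx)) (basisL j.val) (length_lvec _)
  have hj := List.all_eq_true.1 h j.val (List.mem_range.2 j.2)
  rw [eq_of_beq hj, toF_map (show (basisL j.val).length = 6 from length_lvec _) l, toF_basis, ← word_eq hw] at he
  have := congrFun he i
  simp only [Matrix.mulVec_single_one, Matrix.col_apply, Pi.smul_apply, Pi.single_apply, smul_eq_mul] at this
  rw [this, Matrix.smul_apply, Matrix.one_apply, smul_eq_mul]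

theorem central_of_mat {N : SU6} {l : F4} (h : mat N = l • (1 : Matrix (Fin 6) (Fin 6) F4)) :
    N ∈ Subgroup.center SU6 :=
  Subgroup.mem_center_iff.2 fun M => eq_of_mulVec fun x => by
    rw [mat_mul, mat_mul, h, Matrix.smul_mul, Matrix.mul_smul, Matrix.one_mul, Matrix.mul_one]

theorem bS_one_word {w : List ℕ} (hw : w ∈ oneWords) : (w.map bS).prod = 1 := by
  have h := mat_of_scal (letters_lt (List.mem_append_left _ (List.mem_append_left _ hw)))
    (List.all_eq_true.1 one_ok w hw)
  refine eq_of_mulVec fun x => ?_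
  rw [h, show F4.one = (1 : F4) from rfl, one_smul, mat_one]

theorem bU_word (w : List ℕ) : (w.map bU).prod = QuotientGroup.mk' (Subgroup.center SU6) (w.map bS).prod := by
  rw [map_list_prod, List.map_map]
  rfl

theorem bU_one_word {w : List ℕ} (hw : w ∈ oneWords) : (w.map bU).prod = 1 := by
  rw [bU_word, bS_one_word hw, map_one]

theorem bS_relB : mat ((relB.map bS).prod) = F4.om • (1 : Matrix (Fin 6) (Fin 6) F4) :=
  mat_of_scal (letters_lt (by simp)) relB_ok

theorem bS_relC : mat ((relC.map bS).prod) = F4.om' • (1 : Matrix (Fin 6) (Fin 6) F4) :=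
  mat_of_scal (letters_lt (by simp)) relC_ok

theorem bU_relB : (relB.map bU).prod = 1 := by
  rw [bU_word]; exact (QuotientGroup.eq_one_iff _).2 (central_of_mat bS_relB)

theorem bU_relC : (relC.map bU).prod = 1 := by
  rw [bU_word]; exact (QuotientGroup.eq_one_iff _).2 (central_of_mat bS_relC)

theorem pairWord_mem {x y : ℕ} (hx : x < 8) (hy : y < 8) : pairWord x y ∈ oneWords := by
  simp only [oneWords, List.mem_append, List.mem_flatMap, List.mem_map, List.mem_range]
  exact Or.inl (Or.inl (Or.inl (Or.inl (Or.inl (Or.inl ⟨x, hx, y, hy, rfl⟩)))))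

theorem adj_lt {x y : ℕ} (h : adj x y = true) : x < 8 ∧ y < 8 ∧ x ≠ y := by
  simp only [adj, List.any_cons, List.any_nil, Bool.or_false, Bool.or_eq_true, Bool.and_eq_true, Nat.beq_eq] at h
  omega

/-- The Coxeter relations from the values of the pair relators. -/
theorem coxRel_of_pairs {M : Type*} [Group M] (f : ℕ → M) (hbig : ∀ x, 8 ≤ x → f x = 1)
    (h : ∀ x y, x < 8 → y < 8 → ((pairWord x y).map f).prod = 1) : CoxRel f := by
  have hsq : ∀ x, f x * f x = 1 := fun x => by
    rcases Nat.lt_or_ge x 8 with hx | hx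
    · have := h x x hx hx
      rw [pairWord, if_pos (Nat.beq_refl x)] at this
      simpa using this
    · rw [hbig x hx, one_mul]
  have hinv : ∀ x, (f x)⁻¹ = f x := fun x => inv_eq_of_mul_eq_one_right (hsq x)
  refine ⟨hsq, fun x y hxy => ?_, fun x y hxy => ?_⟩
  · obtain ⟨hx, hy, hne⟩ := adj_lt hxy
    have e := h x y hx hy
    rw [pairWord, if_neg (by simpa using hne), if_pos hxy] at e
    simp only [List.map_cons, List.map_nil, List.prod_cons, List.prod_nil, mul_one] at e
    rw [show f x * (f y * (f x * (f y * (f x * f y)))) = f x * (f y * f x) * (f y * (f x * f y)) by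
      simp only [mul_assoc]] at e
    rw [eq_inv_of_mul_eq_one_left e]
    simp only [mul_inv_rev, hinv, mul_assoc]
  · rcases Nat.lt_or_ge x 8 with hx | hx
    swap
    · rw [hbig x hx, one_mul, mul_one]
    rcases Nat.lt_or_ge y 8 with hy | hy
    swap
    · rw [hbig y hy, one_mul, mul_one]
    by_cases hne : x = y
    · rw [hne]
    have e := h x y hx hy
    rw [pairWord, if_neg (by simpa using hne), if_neg (by rw [hxy]; simp)] at e
    simp only [List.map_cons, List.map_nil, List.prod_cons, List.prod_nil, mul_one] at e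
    rw [show f x * (f y * (f x * f y)) = f x * f y * (f x * f y) by simp only [mul_assoc]] at e
    rw [eq_inv_of_mul_eq_one_left e, mul_inv_rev, hinv, hinv]

theorem bS_big {x : ℕ} (hx : 8 ≤ x) : bS x = 1 := if_neg (by omega)

theorem bS_rel : CoxRel bS :=
  coxRel_of_pairs bS (fun _ => bS_big) fun _ _ hx hy => bS_one_word (pairWord_mem hx hy)

theorem bU_rel : CoxRel bU :=
  coxRel_of_pairs bU (fun x hx => by rw [bU, bS_big hx, map_one]) fun _ _ hx hy => bU_one_word (pairWord_mem hx hy)

theorem seed_spec : ∀ (L : List ℕ) (p : ℕ), (seedMask L).testBit p = true → p ∈ L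
  | [], p, h => by simp [seedMask] at h
  | r :: L, p, h => by
    change (seedMask L ||| 1 <<< r).testBit p = true at h
    rw [Nat.testBit_or, Nat.one_shiftLeft, Nat.testBit_two_pow, Bool.or_eq_true, decide_eq_true_eq] at h
    rcases h with h | rfl
    · exact List.mem_cons_of_mem _ (seed_spec L p h)
    · exact List.mem_cons_self

theorem tree_spec : ∀ (L : List (ℕ × ℕ × ℕ)) (m : ℕ), treeOK m L = true →
    ∀ (P : ℕ → Prop), (∀ r, m.testBit r = true → P r) →
    (∀ r j s, r < 3510 → inO r → j < 8 → s < 3510 → inO s → P r →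
      (∃ l : F4, l ≠ 0 ∧ mat (tsu (V (nrow j))) *ᵥ V r = l • V s) → P s) →
    ∀ r, inO r → P r
  | [], m, h, P, hm, _, r, hr => hm r (by rw [Nat.eq_of_beq_eq_true h]; exact hr)
  | e :: L, m, h, P, hm, hstep, r, hr => by
    have h' : (stepOK m e && treeOK (Nat.lor m (Nat.shiftLeft 1 e.2.2)) L) = true := h
    rw [Bool.and_eq_true] at h'
    obtain ⟨h1, h2⟩ := h'
    simp only [stepOK, Bool.and_eq_true, List.any_eq_true, Nat.blt_eq] at h1
    obtain ⟨⟨⟨⟨⟨⟨a1, a2⟩, a3⟩, a4⟩, a5⟩, a6⟩, l, hl, he⟩ := h1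
    have hl0 : l ≠ 0 := by
      simp only [List.mem_cons, List.not_mem_nil, or_false] at hl
      rcases hl with rfl | rfl | rfl <;> decide
    have himg : mat (tsu (V (nrow e.2.1))) *ᵥ V e.1 = l • V e.2.2 := by
      obtain ⟨-, ht⟩ := tprod_apply [nrow e.2.1] (fun z hz => by
        rw [List.mem_singleton] at hz
        exact hz ▸ nrow_mem a3) (lvec (rowCode e.1)) (length_lvec _)
      rw [eq_of_beq he, toF_map (length_lvec _)] at ht
      rw [show Fi22U6.tprod [nrow e.2.1] = tsu (V (nrow e.2.1)) by simp [Fi22U6.tprod]] at ht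
      exact ht
    refine tree_spec L _ h2 P (fun p hp => ?_) hstep r hr
    change (m ||| 1 <<< e.2.2).testBit p = true at hp
    rw [Nat.testBit_or, Nat.one_shiftLeft, Nat.testBit_two_pow, Bool.or_eq_true, decide_eq_true_eq] at hp
    rcases hp with hp | rfl
    · exact hm p hp
    · exact hstep e.1 e.2.1 e.2.2 a2 a5 a3 a4 a6 (hm e.1 a1) ⟨l, hl0, himg⟩

/-- Every point gives a conjugate of the first transvection inside the closure of the eight. -/
theorem row_spec : ∀ r, inO r → (tsu (V r) ∈ Subgroup.closure (Set.range bS)) ∧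
    IsConj (bU 0) (QuotientGroup.mk' (Subgroup.center SU6) (tsu (V r))) := by
  refine tree_spec treeSteps _ tree_ok _ (fun r hr => ?_) ?_
  · obtain ⟨x, hx, rfl⟩ : ∃ x, x < 8 ∧ nrow x = r := by
      have := seed_spec nrows r hr
      obtain ⟨x, hx, rfl⟩ := List.getElem_of_mem this
      exact ⟨x, by simpa [nrows] using hx, by rw [nrow, List.getD_eq_getElem _ _ hx]⟩
    refine ⟨Subgroup.subset_closure ⟨x, if_pos hx⟩, isConj_iff.2 ⟨((chainU x).map bU).prod, ?_⟩⟩
    have hmem : chainU x ++ [0] ++ (chainU x).reverse ++ [x] ∈ oneWords := by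
      simp only [oneWords, List.mem_append, List.mem_map, List.mem_range]
      exact Or.inl (Or.inl (Or.inl (Or.inl (Or.inr ⟨x, hx, rfl⟩))))
    have e := bU_one_word hmem
    simp only [List.map_append, List.prod_append, List.map_singleton, List.prod_singleton] at e
    rw [prod_reverse_eq_inv bU bU_rel.sq] at e
    rw [eq_inv_of_mul_eq_one_left e, inv_eq_of_mul_eq_one_right (bU_rel.sq x), bU, bS, if_pos hx]
  · rintro r j s hr hrO hj hs hsO ⟨h1, h2⟩ ⟨l, hl, e⟩
    have hv : tsu (V (nrow j)) * tsu (V r) * (tsu (V (nrow j)))⁻¹ = tsu (V s) := by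
      rw [tsu_conj _ (iso_row hr hrO), e, tsu_smul (iso_row hs hsO) hl]
    refine ⟨?_, ?_⟩
    · have hg : tsu (V (nrow j)) ∈ Subgroup.closure (Set.range bS) := Subgroup.subset_closure ⟨j, if_pos hj⟩
      rw [← hv]
      exact mul_mem (mul_mem hg h1) (inv_mem hg)
    · refine h2.trans (isConj_iff.2 ⟨QuotientGroup.mk' (Subgroup.center SU6) (tsu (V (nrow j))), ?_⟩)
      rw [← map_inv, ← map_mul, ← map_mul, hv]

theorem closure_bS : Subgroup.closure (Set.range bS) = ⊤ := by
  rw [eq_top_iff, ← closure_tsu, Subgroup.closure_le]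
  rintro _ ⟨v, hv, rfl⟩
  by_cases hv0 : v = 0
  · rw [show tsu v = 1 from eq_of_mulVec fun x => by
      rw [tsu_apply hv, hv0, smul_zero, add_zero, mat_one, Matrix.one_mulVec]]
    exact one_mem _
  obtain ⟨r, hr, l, hl, rfl⟩ := cover hv0 hv
  rw [tsu_smul (iso_row r.2 hr) hl]
  exact (row_spec r hr).1

theorem closure_bU : Subgroup.closure (Set.range bU) = ⊤ := by
  rw [show Set.range bU = QuotientGroup.mk' (Subgroup.center SU6) '' Set.range bS by
    rw [← Set.range_comp]; rfl, ← MonoidHom.map_closure, closure_bS]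
  exact Subgroup.map_top_of_surjective _ (QuotientGroup.mk'_surjective _)

theorem inc_spec : ∀ (L : List ℕ) (b : ℕ), incOK b L = true →
    (∀ r ∈ L, b ≤ keyOf r) ∧ L.Pairwise fun r s => keyOf r < keyOf s
  | [], b, _ => ⟨by simp, List.Pairwise.nil⟩
  | r :: L, b, h => by
    have h' : (Nat.ble b (keyOf r) && incOK (keyOf r + 1) L) = true := h
    rw [Bool.and_eq_true, Nat.ble_eq] at h'
    obtain ⟨h1, h2⟩ := inc_spec L _ h'.2
    refine ⟨fun s hs => ?_, List.pairwise_cons.2 ⟨fun s hs => h1 s hs, h2⟩⟩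
    rcases List.mem_cons.1 hs with rfl | hs
    · exact h'.1
    · exact le_trans (Nat.le_succ_of_le h'.1) (h1 s hs)

theorem maxCode_smul (μ : F4) (hμ : μ ≠ 0) (y : List F4) : maxCode (y.map (μ * ·)) = maxCode y := by
  simp only [maxCode, List.map_map]
  have : ∀ a : F4, ((fun z => a * z) ∘ fun z => μ * z) = fun z => a * μ * z := fun a =>
    funext fun z => (mul_assoc a μ z).symm
  rw [this, this, this]
  rcases (show ∀ m : F4, m = 0 ∨ m = F4.one ∨ m = F4.om ∨ m = F4.om' by decide) μ with h | rfl | rfl | rfl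
  · exact absurd h hμ
  · simp only [show F4.one * F4.one = F4.one from rfl, show F4.om * F4.one = F4.om from rfl,
      show F4.om' * F4.one = F4.om' from rfl]
  · simp only [show F4.one * F4.om = F4.om from rfl, show F4.om * F4.om = F4.om' from rfl,
      show F4.om' * F4.om = F4.one from rfl]
    omega
  · simp only [show F4.one * F4.om' = F4.om' from rfl, show F4.om * F4.om' = F4.one from rfl,
      show F4.om' * F4.om' = F4.om from rfl]
    omega

theorem toF_inj {l m : List F4} (hl : l.length = 6) (hm : m.length = 6) (h : toF l = toF m) : l = m := by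
  obtain ⟨x₀, x₁, x₂, x₃, x₄, x₅, rfl⟩ := six hl
  obtain ⟨y₀, y₁, y₂, y₃, y₄, y₅, rfl⟩ := six hm
  have e0 := congrFun h 0; have e1 := congrFun h 1; have e2 := congrFun h 2
  have e3 := congrFun h 3; have e4 := congrFun h 4; have e5 := congrFun h 5
  simp only [toF] at e0 e1 e2 e3 e4 e5
  simp at e0 e1 e2 e3 e4 e5
  rw [e0, e1, e2, e3, e4, e5]

theorem key_eq_of_smul {r r' : ℕ} (hr : r < 3510 ∧ inO r) (hr' : r' < 3510 ∧ inO r') {μ : F4} (hμ : μ ≠ 0)
    (h : mat (tsu (V r')) = μ • mat (tsu (V r))) : keyOf r' = keyOf r := by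
  have hm : ∀ x : List F4, x.length = 6 → limg [r'] x = (limg [r] x).map (μ * ·) := fun x hx => by
    obtain ⟨l1, e1⟩ := tprod_apply [r'] (fun z hz => by rw [List.mem_singleton] at hz; exact hz ▸ hr') x hx
    obtain ⟨l2, e2⟩ := tprod_apply [r] (fun z hz => by rw [List.mem_singleton] at hz; exact hz ▸ hr) x hx
    refine toF_inj l1 (by simpa using l2) ?_
    rw [toF_map l2, ← e1, ← e2, show Fi22U6.tprod [r'] = tsu (V r') by simp [Fi22U6.tprod],
      show Fi22U6.tprod [r] = tsu (V r) by simp [Fi22U6.tprod], h, Matrix.smul_mulVec]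
  have hc : ∀ (L : List ℕ) (f g : ℕ → ℕ), (∀ x, f x = g x) → ∀ k : ℕ,
      L.foldl (fun k s => k * 4096 + f s) k = L.foldl (fun k s => k * 4096 + g s) k := fun L f g h k => by
    rw [funext h]
  exact hc probes (fun s => maxCode (limg [r'] (lvec (rowCode s)))) (fun s => maxCode (limg [r] (lvec (rowCode s))))
    (fun s => by rw [hm _ (length_lvec _), maxCode_smul μ hμ]) 0

theorem scalar_of_central {N : SU6} (hN : N ∈ Subgroup.center SU6) :
    ∃ μ : F4, μ ≠ 0 ∧ mat N = μ • (1 : Matrix (Fin 6) (Fin 6) F4) := by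
  have hev : ∀ v : Fin 6 → F4, v ≠ 0 → Cfsg.hermForm 6 F4 2 v v = 0 → ∀ x,
      Cfsg.hermForm 6 F4 2 x (mat N *ᵥ v) • (mat N *ᵥ v) = Cfsg.hermForm 6 F4 2 x v • v := by
    intro v _ hi x
    have e : tsu (mat N *ᵥ v) = tsu v := by
      rw [← tsu_conj N hi, ← Subgroup.mem_center_iff.1 hN (tsu v), mul_inv_cancel_right]
    have e2 := congrArg (fun M => mat M *ᵥ x) e
    rw [tsu_apply (by rw [form_eq]; exact hi), tsu_apply hi] at e2
    exact add_left_cancel e2
  have hpar : ∀ v : Fin 6 → F4, v ≠ 0 → Cfsg.hermForm 6 F4 2 v v = 0 → ∃ μ : F4, mat N *ᵥ v = μ • v := by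
    intro v hv hi
    obtain ⟨i, hiv⟩ := Function.ne_iff.1 hv
    have e := hev v hv hi (Pi.single i 1)
    have hc : Cfsg.hermForm 6 F4 2 (Pi.single i 1) v ≠ 0 := by
      rw [Cfsg.hermForm, Finset.sum_eq_single i (fun j _ hj => by simp [Pi.single_eq_of_ne hj])
        (fun h => absurd (Finset.mem_univ i) h), Pi.single_eq_same, one_mul]
      exact pow_ne_zero _ hiv
    by_cases hd : Cfsg.hermForm 6 F4 2 (Pi.single i 1) (mat N *ᵥ v) = 0
    · rw [hd, zero_smul, eq_comm, smul_eq_zero] at e
      exact absurd e (not_or.2 ⟨hc, hv⟩)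
    · refine ⟨(Cfsg.hermForm 6 F4 2 (Pi.single i 1) (mat N *ᵥ v))⁻¹ * Cfsg.hermForm 6 F4 2 (Pi.single i 1) v, ?_⟩
      rw [← smul_smul, ← e, smul_smul, inv_mul_cancel₀ hd, one_smul]
  let pv : Fin 6 → Fin 6 → F4 → (Fin 6 → F4) := fun i j c => Pi.single i 1 + Pi.single j c
  have hiso : ∀ i j : Fin 6, ∀ c : F4, i ≠ j → c ≠ 0 →
      Cfsg.hermForm 6 F4 2 (pv i j c) (pv i j c) = 0 ∧ pv i j c ≠ 0 := by
    decide +kernel
  have hent : ∀ i j : Fin 6, i ≠ j → mat N i j = 0 ∧ mat N i i = mat N j j := by
    intro i j hij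
    have key : ∀ a b p q : F4, b + q = a + p → b + F4.om * q = F4.om * (a + F4.om * p) →
        b + F4.om' * q = F4.om' * (a + F4.om' * p) → p = 0 ∧ a = q := by decide +kernel
    have img : ∀ c : F4, c ≠ 0 → mat N j i + c * mat N j j = c * (mat N i i + c * mat N i j) := by
      intro c hc
      obtain ⟨μ, hμ⟩ := hpar _ (hiso i j c hij hc).2 (hiso i j c hij hc).1
      have m1 := congrFun hμ i
      have m2 := congrFun hμ j
      simp only [pv, Matrix.mulVec_add, Matrix.mulVec_single, MulOpposite.op_one, one_smul, Pi.add_apply,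
        Pi.smul_apply, Matrix.col_apply, Pi.single_apply, MulOpposite.smul_eq_mul_unop, MulOpposite.unop_op,
        smul_eq_mul, if_pos, if_neg hij, if_neg hij.symm, mul_one, add_zero, zero_add] at m1 m2
      rw [mul_comm c, m2, mul_comm c (mat N i j), m1, mul_comm]
    have h1 := img 1 one_ne_zero
    rw [one_mul, one_mul, one_mul] at h1
    exact key _ _ _ _ h1 (img F4.om (by decide)) (img F4.om' (by decide))
  refine ⟨mat N 0 0, fun h0 => ?_, ?_⟩
  · have hz : mat N = 0 := by
      ext i j
      by_cases hij : i = j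
      · subst hij
        by_cases hi : i = 0
        · rw [hi, h0]; rfl
        · rw [(hent i 0 hi).2, h0]; rfl
      · rw [(hent i j hij).1]; rfl
    have h1 := mat_mul N N⁻¹
    rw [mul_inv_cancel, mat_one, hz, Matrix.zero_mul] at h1
    exact one_ne_zero h1
  · ext i j
    rw [Matrix.smul_apply, Matrix.one_apply]
    by_cases hij : i = j
    · subst hij
      by_cases hi : i = 0
      · rw [hi, if_pos rfl, smul_eq_mul, mul_one]
      · rw [(hent i 0 hi).2, if_pos rfl, smul_eq_mul, mul_one]
    · rw [(hent i j hij).1, if_neg hij, smul_zero]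

instance finite_U0 : Finite U0 := inferInstance

/-- The centraliser of the first transvection. -/
abbrev C0 : Subgroup U0 := Subgroup.centralizer {bU 0}

theorem index_C0 : 693 ≤ C0.index := by
  obtain ⟨hlen, hall⟩ := sorted_ok
  have hrow : ∀ r ∈ sortedRows, r < 3510 ∧ inO r := fun r hr => by
    simpa [Bool.and_eq_true] using List.all_eq_true.1 hall r hr
  choose g hg using fun i : Fin sortedRows.length =>
    isConj_iff.1 (row_spec _ (hrow _ (List.getElem_mem i.2)).2).2
  let f : Fin sortedRows.length → U0 ⧸ C0 := fun i => (g i : U0)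
  have hf : Function.Injective f := by
    intro i j h
    have hc : (g i)⁻¹ * g j ∈ C0 := QuotientGroup.eq.1 h
    rw [Subgroup.mem_centralizer_singleton_iff] at hc
    have e : g i * bU 0 * (g i)⁻¹ = g j * bU 0 * (g j)⁻¹ := by
      calc g i * bU 0 * (g i)⁻¹ = g i * (bU 0 * ((g i)⁻¹ * g j)) * (g j)⁻¹ := by group
        _ = g i * ((g i)⁻¹ * g j * bU 0) * (g j)⁻¹ := by rw [hc]
        _ = _ := by group
    rw [hg, hg, QuotientGroup.mk'_apply, QuotientGroup.mk'_apply, QuotientGroup.eq] at e
    obtain ⟨μ, hμ, hm⟩ := scalar_of_central e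
    have hi := hrow _ (List.getElem_mem i.2)
    have hj := hrow _ (List.getElem_mem j.2)
    have e2 : mat (tsu (V sortedRows[j.1])) = μ • mat (tsu (V sortedRows[i.1])) := by
      have := mat_mul (tsu (V sortedRows[i.1])) ((tsu (V sortedRows[i.1]))⁻¹ * tsu (V sortedRows[j.1]))
      rw [mul_inv_cancel_left] at this
      rw [this]
      exact (congrArg (mat (tsu (V sortedRows[i.1])) * ·) hm).trans (by rw [Matrix.mul_smul, Matrix.mul_one])
    have hk := key_eq_of_smul hi hj hμ e2
    have hp := (inc_spec sortedRows 0 inc_ok).2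
    rw [List.pairwise_iff_getElem] at hp
    rcases Nat.lt_trichotomy i.1 j.1 with h' | h' | h'
    · exact absurd hk (hp i j i.2 j.2 h').ne'
    · exact Fin.ext h'
    · exact absurd hk (hp j i j.2 i.2 h').ne
  have := Nat.card_le_card_of_injective f hf
  rwa [Nat.card_fin, hlen] at this

theorem cent_comm {k : ℕ} (hk : k < 9) : ((centW k).map bU).prod ∈ C0 := by
  have hl : centWords.length = 9 := rfl
  have hm : centW k ∈ centWords := by rw [centW, List.getD_eq_getElem _ _ (hl ▸ hk)]; exact List.getElem_mem _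
  have hmem : centW k ++ [0] ++ centW k ++ [0] ∈ oneWords := by
    simp only [oneWords, List.mem_append, List.mem_map]
    exact Or.inl (Or.inl (Or.inr ⟨_, hm, rfl⟩))
  have e := bU_one_word hmem
  simp only [List.map_append, List.prod_append, List.map_singleton, List.prod_singleton] at e
  have hrev : centW k = (centW k).reverse := (eq_of_beq (List.all_eq_true.1 cent_pal _ hm)).symm
  have hinv : ((centW k).map bU).prod⁻¹ = ((centW k).map bU).prod := by
    rw [← prod_reverse_eq_inv bU bU_rel.sq, ← hrev]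
  rw [Subgroup.mem_centralizer_singleton_iff]
  have e' : ((centW k).map bU).prod * bU 0 * (((centW k).map bU).prod * bU 0) = 1 := by
    rw [← e]; simp only [mul_assoc]
  rw [eq_inv_of_mul_eq_one_left e', mul_inv_rev, hinv, inv_eq_of_mul_eq_one_right (bU_rel.sq 0)]

theorem closure_cent :
    Subgroup.closure {g : U0 | ∃ w ∈ centWords, g = (w.map bU).prod} = C0 := by
  set H := Subgroup.closure {g : U0 | ∃ w ∈ centWords, g = (w.map bU).prod} with hH
  have hle : H ≤ C0 := by
    rw [hH, Subgroup.closure_le]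
    rintro _ ⟨w, hw, rfl⟩
    obtain ⟨k, hk, rfl⟩ := List.getElem_of_mem hw
    have := cent_comm (k := k) (by rwa [show centWords.length = 9 from rfl] at hk)
    rwa [centW, List.getD_eq_getElem _ _ hk] at this
  have he : bU eqLetter = 1 := by rw [bU, bS_big (by decide), map_one]
  have hrel : ∀ w ∈ UsixCent.cert.rels, (w.map bU).prod = 1 := by
    intro w hw
    have h := (show UsixCent.cert.rels.all (fun w => oneWords.contains w || ([relB, relC] : List (List ℕ)).contains w)
      = true by decide +kernel)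
    have h' := List.all_eq_true.1 h w hw
    simp only [Bool.or_eq_true, List.contains_iff_mem] at h'
    rcases h' with h' | h'
    · exact bU_one_word h'
    · simp only [List.mem_cons, List.not_mem_nil, or_false] at h'
      rcases h' with rfl | rfl
      exacts [bU_relB, bU_relC]
  have hsub : Cert.WordsIn bU H UsixCent.cert.subs := by
    intro w hw
    rw [show UsixCent.cert.subs = centWords by decide +kernel] at hw
    exact Subgroup.subset_closure ⟨w, hw, rfl⟩
  obtain ⟨v, hv0, -, horb⟩ := Cert.exists_orbit bU_rel.sq he UsixCent.ok H hrel hsub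
  have hall : ∀ q : U0 ⧸ H, ∃ c : Fin UsixCent.cert.n, v (UsixCent.cert.nodeOf c) = q := by
    intro q
    induction q using QuotientGroup.induction_on with
    | H u =>
      have hu : u ∈ Subgroup.closure {g | ∃ x ∈ UsixCent.cert.kl, g = bU x} := by
        have htop : Subgroup.closure {g | ∃ x ∈ UsixCent.cert.kl, g = bU x} = ⊤ := by
          rw [eq_top_iff, ← closure_bU, Subgroup.closure_le]
          rintro _ ⟨x, rfl⟩
          rcases Nat.lt_or_ge x 8 with hx | hx
          · refine Subgroup.subset_closure ⟨x, ?_, rfl⟩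
            have : UsixCent.cert.kl = List.range 8 := by decide +kernel
            rw [this]; exact List.mem_range.2 hx
          · rw [bU, bS_big hx, map_one]; exact one_mem _
        rw [htop]; exact Subgroup.mem_top u
      obtain ⟨c, hc, e⟩ := horb u hu
      refine ⟨⟨c, hc⟩, ?_⟩
      rw [← e, hv0, MulAction.Quotient.smul_coe, smul_eq_mul, mul_one]
  have hidx : H.index ≤ 693 := by
    have := Nat.card_le_card_of_surjective (fun c : Fin UsixCent.cert.n => v (UsixCent.cert.nodeOf c)) hall
    rwa [Nat.card_fin, show UsixCent.cert.n = 693 from rfl] at this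
  refine Subgroup.eq_of_le_of_card_ge hle ?_
  have h1 := H.index_mul_card
  have h2 := C0.index_mul_card
  have h3 := index_C0
  by_contra hlt
  have h4 : Nat.card H < Nat.card C0 := Nat.lt_of_not_le hlt
  have h6 : H.index * Nat.card H ≤ 693 * Nat.card H := Nat.mul_le_mul_right _ hidx
  have h5 : 693 * Nat.card C0 ≤ C0.index * Nat.card C0 := Nat.mul_le_mul_right _ h3
  omega

/-- A homomorphism on the centraliser into an abelian group that kills the first transvection is trivial. -/
theorem hom_C0_trivial {M : Type*} [CommGroup M] (φ : C0 →* M)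
    (h0 : φ ⟨bU 0, Subgroup.mem_centralizer_singleton_iff.2 rfl⟩ = 1) (k : C0) : φ k = 1 := by
  let A : ℕ → C0 := fun i => if h : i < 9 then ⟨_, cent_comm h⟩ else 1
  have hA : ∀ i, i < 9 → (A i : U0) = ((centW i).map bU).prod := fun i hi => by simp only [A, dif_pos hi]
  have hsq : ∀ i, φ (A i) * φ (A i) = 1 := fun i => by
    rw [← map_mul]
    by_cases hi : i < 9
    · rw [show A i * A i = 1 from Subtype.ext (by
        rw [Subgroup.coe_mul, hA i hi, OneMemClass.coe_one]
        have hm : centW i ∈ centWords := by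
          rw [centW, List.getD_eq_getElem _ _ (show i < centWords.length from hi)]; exact List.getElem_mem _
        conv_lhs => arg 2; rw [← eq_of_beq (List.all_eq_true.1 cent_pal _ hm)]
        rw [prod_reverse_eq_inv bU bU_rel.sq, mul_inv_cancel]), map_one]
    · simp [A, dif_neg hi]
  have hadj : ∀ p ∈ centPairs, φ (A p.1) = φ (A p.2) := by
    intro p hp
    have hlt : p.1 < 9 ∧ p.2 < 9 := (by decide : ∀ p ∈ centPairs, p.1 < 9 ∧ p.2 < 9) p hp
    have hmem : centW p.1 ++ centW p.2 ++ (centW p.1 ++ centW p.2) ++ (centW p.1 ++ centW p.2) ∈ oneWords := by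
      simp only [oneWords, List.mem_append, List.mem_map]
      exact Or.inl (Or.inl (Or.inl (Or.inr ⟨p, hp, rfl⟩)))
    have h1 : A p.1 * A p.2 * (A p.1 * A p.2) * (A p.1 * A p.2) = 1 := Subtype.ext (by
      simp only [Subgroup.coe_mul, hA _ hlt.1, hA _ hlt.2, OneMemClass.coe_one]
      have e := bU_one_word hmem
      simpa only [List.map_append, List.prod_append] using e)
    have h2 := congrArg φ h1
    simp only [map_mul, map_one] at h2
    have e : φ (A p.1) * φ (A p.2) = 1 := by
      calc φ (A p.1) * φ (A p.2) = (φ (A p.1) * φ (A p.1)) * (φ (A p.2) * φ (A p.2)) * (φ (A p.1) * φ (A p.2)) := by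
            rw [hsq, hsq, one_mul, one_mul]
        _ = φ (A p.1) * φ (A p.2) * (φ (A p.1) * φ (A p.2)) * (φ (A p.1) * φ (A p.2)) := by ac_rfl
        _ = 1 := h2
    rw [eq_inv_of_mul_eq_one_left e]
    exact inv_eq_of_mul_eq_one_right (hsq p.2)
  have e21 := hadj (2, 1) (by decide)
  have e23 := hadj (2, 3) (by decide)
  have e27 := hadj (2, 7) (by decide)
  have e28 := hadj (2, 8) (by decide)
  have e74 := hadj (7, 4) (by decide)
  have e75 := hadj (7, 5) (by decide)
  have e76 := hadj (7, 6) (by decide)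
  dsimp only at e21 e23 e27 e28 e74 e75 e76
  have hall : ∀ i, 1 ≤ i → i < 9 → φ (A i) = φ (A 2) := by
    intro i h1 h2
    interval_cases i
    · exact e21.symm
    · rfl
    · exact e23.symm
    · exact (e27.trans e74).symm
    · exact (e27.trans e75).symm
    · exact (e27.trans e76).symm
    · exact e27.symm
    · exact e28.symm
  have hu : φ (A 2) = 1 := by
    have hmem : oddWord ∈ oneWords := by simp [oneWords]
    have hlt : ∀ i ∈ oddIdx, 1 ≤ i ∧ i < 9 := fun i hi => by
      simpa [Bool.and_eq_true, Nat.one_le_iff_ne_zero, Nat.pos_iff_ne_zero] using List.all_eq_true.1 odd_idx.1 i hi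
    have h1 : (oddIdx.map A).prod = 1 := Subtype.ext (by
      rw [Subgroup.val_list_prod, List.map_map, OneMemClass.coe_one, ← bU_one_word hmem, oddWord,
        List.map_flatMap, List.flatMap_def, List.prod_flatten, List.map_map]
      exact congrArg List.prod (List.map_congr_left fun i hi => hA i (hlt i hi).2))
    have h2 := congrArg φ h1
    have hm : oddIdx.map (⇑φ ∘ A) = oddIdx.map fun _ => φ (A 2) :=
      List.map_congr_left fun i hi => hall i (hlt i hi).1 (hlt i hi).2
    rw [map_list_prod, List.map_map, map_one, hm, List.map_const', List.prod_replicate, odd_idx.2, pow_succ, pow_mul, pow_two, hsq, one_pow, one_mul] at h2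
    exact h2
  have hle : C0 ≤ φ.ker.map C0.subtype := by
    conv_lhs => rw [← closure_cent]
    rw [Subgroup.closure_le]
    rintro _ ⟨w, hw, rfl⟩
    obtain ⟨i, hi, rfl⟩ := List.getElem_of_mem hw
    have hi9 : i < 9 := by rwa [show centWords.length = 9 from rfl] at hi
    refine ⟨A i, ?_, ?_⟩
    · rw [SetLike.mem_coe, MonoidHom.mem_ker]
      rcases Nat.eq_zero_or_pos i with rfl | hpos
      · rw [← h0]
        exact congrArg φ (Subtype.ext (by rw [hA 0 (by omega)]; simp [centW, centWords]))
      · rw [hall i hpos hi9, hu]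
    · rw [Subgroup.subtype_apply, hA i hi9, centW, List.getD_eq_getElem _ _ hi]
  obtain ⟨k', hk', e⟩ := hle k.2
  rw [← show k' = k from Subtype.ext e]
  exact hk'

end CfsgLib.Recog.UsixMult
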