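import Cfsg.Agent.Lib.Recog.UsixMult.Involutions
import Cfsg.Prelude.Def_CaseTheorems

/-!
# Involutions of a double cover of PSU(6, 2) centralising a central involution

Owner: helper6.
-/

set_option autoImplicit false

namespace CfsgLib.Recog.UsixMult

open Cfsg CfsgLib.Recog.SporBound.Fi22U6

/-- The lifting property and the consequence for square roots. -/
theorem centralizer_lift {G : Type*} [Group G] (d : G) (hd : orderOf d = 2)
    (hperf : commutator ↥(Subgroup.centralizer ({d} : Set G)) = ⊤)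
    [hzn : ((Subgroup.zpowers d).subgroupOf (Subgroup.centralizer ({d} : Set G))).Normal]
    {K : Type} [Field K] [Fintype K] (hK : Fintype.card K = 4)
    (e : ↥(Subgroup.centralizer ({d} : Set G)) ⧸ (Subgroup.zpowers d).subgroupOf (Subgroup.centralizer ({d} : Set G))
      ≃* Cfsg.PSU 6 K 2) :
    (∀ x : ↥(Subgroup.centralizer ({d} : Set G)) ⧸ (Subgroup.zpowers d).subgroupOf (Subgroup.centralizer ({d} : Set G)),
      orderOf x = 2 → ∃ y : ↥(Subgroup.centralizer ({d} : Set G)), orderOf y = 2 ∧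
        (QuotientGroup.mk y : ↥(Subgroup.centralizer ({d} : Set G)) ⧸
          (Subgroup.zpowers d).subgroupOf (Subgroup.centralizer ({d} : Set G))) = x) ∧ ¬ ∃ g : G, g ^ 2 = d := by
  let C := Subgroup.centralizer ({d} : Set G)
  let N := (Subgroup.zpowers d).subgroupOf C
  let f : C ⧸ N ≃* U0 := e.trans (exists_psu_equiv hK).some.symm
  let σ : C →* U0 := f.toMonoidHom.comp (QuotientGroup.mk' N)
  have hker : σ.ker = N := by
    ext y
    rw [MonoidHom.mem_ker, MonoidHom.comp_apply]
    exact f.map_eq_one_iff.trans (QuotientGroup.eq_one_iff y)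
  have hstem : Cfsg.IsStemExtension σ := by
    refine ⟨f.surjective.comp (QuotientGroup.mk'_surjective N), ?_, by rw [hperf]; exact le_top⟩
    rw [hker]
    intro y hy
    rw [Subgroup.mem_center_iff]
    intro z
    obtain ⟨k, hk⟩ := Subgroup.mem_subgroupOf.1 hy
    refine Subtype.ext ?_
    have hzd : Commute (z : G) d := Subgroup.mem_centralizer_singleton_iff.1 z.2
    show (z : G) * y = y * z
    rw [← hk]
    exact (hzd.zpow_right k).eq
  have hlift : ∀ x : C ⧸ N, orderOf x = 2 → ∃ y : C, orderOf y = 2 ∧ (QuotientGroup.mk y : C ⧸ N) = x := by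
    intro x hx
    have hx2 : x * x = 1 := by
      have := pow_orderOf_eq_one x
      rwa [hx, pow_two] at this
    have hu : f x * f x = 1 := by rw [← map_mul, hx2, map_one]
    obtain ⟨y, hy, hy2⟩ := exists_sq_one_lift σ hstem hu
    have hyx : (QuotientGroup.mk y : C ⧸ N) = x := f.injective hy
    refine ⟨y, orderOf_eq_prime (by rw [pow_two, hy2]) fun h => ?_, hyx⟩
    rw [h] at hyx
    rw [← hyx] at hx
    simp at hx
  refine ⟨hlift, ?_⟩
  rintro ⟨g, hg⟩
  have hgC : g ∈ C := Subgroup.mem_centralizer_singleton_iff.2 (by rw [← hg]; exact ((Commute.refl g).pow_right 2).eq)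
  have hd1 : d ≠ 1 := fun h => by rw [h, orderOf_one] at hd; exact absurd hd (by norm_num)
  have hdd : d * d = 1 := by rw [← pow_two, ← hd, pow_orderOf_eq_one]
  have hdp : ∀ k : ℤ, d ^ k = 1 ∨ d ^ k = d := by
    intro k
    rcases Int.even_or_odd k with ⟨m, rfl⟩ | ⟨m, rfl⟩
    · left; rw [zpow_add, ← (Commute.refl d).mul_zpow, hdd, one_zpow]
    · right; rw [two_mul, zpow_add, zpow_add, ← (Commute.refl d).mul_zpow, hdd, one_zpow, one_mul, zpow_one]
  have hgN : ∀ h : C, (h : G) * h = d → (QuotientGroup.mk h : C ⧸ N) ≠ 1 := by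
    intro h hh hm
    obtain ⟨k, hk⟩ := Subgroup.mem_subgroupOf.1 ((QuotientGroup.eq_one_iff h).1 hm)
    rcases hdp k with e1 | e1 <;> rw [show (h : G) = d ^ k from hk.symm, e1] at hh
    · exact hd1 (by rw [← hh, one_mul])
    · exact hd1 (hh.symm.trans hdd)
  have hne := hgN ⟨g, hgC⟩ (by show g * g = d; rw [← pow_two, hg])
  have h2 : (QuotientGroup.mk (⟨g, hgC⟩ : C) : C ⧸ N) ^ 2 = 1 := by
    rw [← QuotientGroup.mk_pow]
    refine (QuotientGroup.eq_one_iff _).2 (Subgroup.mem_subgroupOf.2 ?_)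
    rw [Subgroup.coe_pow]
    show g ^ 2 ∈ _
    rw [hg]
    exact Subgroup.mem_zpowers d
  obtain ⟨y, hy, hyg⟩ := hlift _ (orderOf_eq_prime h2 hne)
  obtain ⟨k, hk⟩ := Subgroup.mem_subgroupOf.1 (QuotientGroup.eq.1 hyg)
  have hy2 : (y : G) * y = 1 := by
    rw [← Subgroup.coe_mul, ← pow_two, ← hy, pow_orderOf_eq_one]; rfl
  have hyd : Commute (y : G) d := Subgroup.mem_centralizer_singleton_iff.1 y.2
  have hg' : g = (y : G) * d ^ k := by
    show g = (y : G) * d ^ k
    rw [show d ^ k = ((y⁻¹ * ⟨g, hgC⟩ : C) : G) from hk, Subgroup.coe_mul, Subgroup.coe_inv, mul_inv_cancel_left]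
  apply hd1
  rw [← hg, hg', pow_two]
  rcases hdp k with e1 | e1 <;> rw [e1]
  · rw [mul_one, hy2]
  · calc (y : G) * d * (y * d) = y * (d * y) * d := by simp only [mul_assoc]
      _ = (y * y) * (d * d) := by rw [← hyd.eq]; simp only [mul_assoc]
      _ = 1 := by rw [hy2, hdd, one_mul]

end CfsgLib.Recog.UsixMult
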